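import Cfsg.Agent.H770.Hen.Coord
import Cfsg.Agent.H780.HL.Defs

/-!
# S5175, section L: the coordinates in the form of `H780.HL.LC` (helper770)
-/

set_option autoImplicit false

namespace Cfsg.Agent.H770.Hen

open Cfsg Cfsg.FusionSystem Cfsg.Agent.H802 Cfsg.Agent.H756.HM

namespace BRel

variable {Ω : Type*} [Group Ω] {S : Subgroup Ω} {F : FusionSystem S} {K : Type} [Field K] [Fintype K]
    {V T : Subgroup Ω} {x : Ω} {B : Big F K V T x} {σ : K ≃+* K} {R : Rel Ω K σ} (D : BRel B R)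

include D

theorem V_mem (a c : K) : R.e a 0 c ∈ V := by rw [D.V_eq]; exact R.e_mem_V a c

/-- conjugation by `x⁻¹` on `V^x` -/
theorem xinv (b c : K) : x⁻¹ * R.e 0 b c * x = R.e (σ b) 0 (σ c) := by
  obtain ⟨w, hw, hx⟩ := D.xy
  rw [D.W_eq] at hw
  have h1 : x⁻¹ * R.e 0 b c * x = R.y⁻¹ * (w⁻¹ * R.e 0 b c * w) * R.y := by rw [hx]; group
  have h2 : w⁻¹ * R.e 0 b c * w = R.e 0 b c := by
    rw [mul_assoc, R.Wg_comm (R.e_mem_W b c) hw, inv_mul_cancel_left]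
  rw [h1, h2, R.y_inv_e, map_zero]
  congr 1
  rw [zero_mul, add_zero]

/-- conjugation by `x` on `V` -/
theorem xconj (a c : K) : x * R.e a 0 c * x⁻¹ = R.e 0 (σ a) (σ c) := by
  obtain ⟨w, hw, hx⟩ := D.xy
  rw [D.W_eq] at hw
  have h1 : x * R.e a 0 c * x⁻¹ = w * (R.y * R.e a 0 c * R.y⁻¹) * w⁻¹ := by rw [hx]; group
  rw [h1, R.y_e, map_zero, R.Wg_comm hw (R.e_mem_W _ _), mul_inv_cancel_right]
  congr 1
  rw [mul_zero, add_zero]

theorem E3 : ∀ e ∈ B.E, ∃ p q r s : K, p * s - q * r = 1 ∧ ∀ (b c : K) (h : x⁻¹ * R.e 0 b c * x ∈ V),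
    x * ((e ⟨x⁻¹ * R.e 0 b c * x, h⟩ : V) : Ω) * x⁻¹ = R.e 0 (r * c + s * b) (p * c + q * b) := by
  intro e he
  obtain ⟨p, q, r, s, hd, h⟩ := D.E1 e he
  refine ⟨σ p, σ q, σ r, σ s, ?_, ?_⟩
  · rw [← map_mul, ← map_mul, ← map_sub, hd, map_one]
  · intro b c h1
    have h2 : (⟨x⁻¹ * R.e 0 b c * x, h1⟩ : V) = ⟨R.e (σ b) 0 (σ c), D.V_mem _ _⟩ := Subtype.ext (D.xinv b c)
    rw [h2, h, D.xconj]
    congr 1 <;> simp only [map_add, map_mul, R.sig]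

theorem E4 : ∀ p q r s : K, p * s - q * r = 1 → ∃ e ∈ B.E, ∀ (b c : K) (h : x⁻¹ * R.e 0 b c * x ∈ V),
    x * ((e ⟨x⁻¹ * R.e 0 b c * x, h⟩ : V) : Ω) * x⁻¹ = R.e 0 (r * c + s * b) (p * c + q * b) := by
  intro p q r s hd
  obtain ⟨e, he, h⟩ := D.E2 (σ p) (σ q) (σ r) (σ s) (by rw [← map_mul, ← map_mul, ← map_sub, hd, map_one])
  refine ⟨e, he, ?_⟩
  intro b c h1
  have h2 : (⟨x⁻¹ * R.e 0 b c * x, h1⟩ : V) = ⟨R.e (σ b) 0 (σ c), D.V_mem _ _⟩ := Subtype.ext (D.xinv b c)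
  rw [h2, h, D.xconj]
  congr 1 <;> simp only [map_add, map_mul, R.sig]

end BRel

open Cfsg.Agent.H780.HL

universe u

/-- **The coordinates of `T`** (`StLC` of helper780). -/
theorem stLC : StLC.{u} := by
  intro Ω _ S _ hS F hF K _ _ V T x B hD
  obtain ⟨σ, R, D⟩ := exists_rel hS B hD
  have hu0 : ∀ a c : K, R.e a 0 (c + a * 0) = R.e a 0 c := fun a c => by rw [mul_zero, add_zero]
  have hu1 : ∀ b c : K, R.e 0 b (c + 0 * b) = R.e 0 b c := fun a c => by rw [zero_mul, add_zero]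
  refine ⟨⟨fun a b c => R.e a b (c + a * b), ?_, ?_, ?_, ?_, ?_, ?_, ?_, ?_, ?_, ?_⟩⟩
  · intro a b c
    rw [D.T_eq]; exact R.e_mem_T _ _ _
  · intro t ht
    rw [D.T_eq] at ht
    obtain ⟨a, b, c, rfl⟩ := R.mem_T.1 ht
    refine ⟨a, b, c + a * b, ?_⟩
    congr 1
    linear_combination -R.two (a * b)
  · intro a b c a' b' c' h
    obtain ⟨h1, h2, h3⟩ := R.e_inj h
    subst h1 h2
    exact ⟨rfl, rfl, add_right_cancel h3⟩
  · intro a b c a' b' c'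
    rw [R.e_mul]
    congr 1
    linear_combination -R.two (b * a')
  · intro a b c
    rw [D.V_eq, R.mem_Vg]
    constructor
    · rintro ⟨a', c', h⟩
      exact (R.e_inj h).2.1
    · rintro rfl
      exact ⟨_, _, rfl⟩
  · intro a b c
    rw [D.W_eq, R.mem_Wg]
    constructor
    · rintro ⟨a', c', h⟩
      exact (R.e_inj h).1
    · rintro rfl
      exact ⟨_, _, rfl⟩
  · intro e he
    obtain ⟨p, q, r, s, hd, h⟩ := D.E1 e he
    refine ⟨⟨!![p, q; r, s], by rw [Matrix.det_fin_two_of]; exact hd⟩, fun a c h1 => ?_⟩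
    have h2 : (⟨R.e a 0 (c + a * 0), h1⟩ : V) = ⟨R.e a 0 c, D.V_mem _ _⟩ := Subtype.ext (hu0 a c)
    exact (congrArg (fun t : V => ((e t : V) : Ω)) h2).trans ((h a c _).trans (hu0 _ _).symm)
  · intro g
    obtain ⟨e, he, h⟩ := D.E2 (g.1 0 0) (g.1 0 1) (g.1 1 0) (g.1 1 1) (by
      have := g.2
      rwa [Matrix.det_fin_two] at this)
    refine ⟨e, he, fun a c h1 => ?_⟩
    have h2 : (⟨R.e a 0 (c + a * 0), h1⟩ : V) = ⟨R.e a 0 c, D.V_mem _ _⟩ := Subtype.ext (hu0 a c)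
    exact (congrArg (fun t : V => ((e t : V) : Ω)) h2).trans ((h a c _).trans (hu0 _ _).symm)
  · intro e he
    obtain ⟨p, q, r, s, hd, h⟩ := D.E3 e he
    refine ⟨⟨!![p, q; r, s], by rw [Matrix.det_fin_two_of]; exact hd⟩, fun b c h1 => ?_⟩
    have h3 : x⁻¹ * R.e 0 b c * x ∈ V := by rw [D.xinv]; exact D.V_mem _ _
    have h2 : (⟨x⁻¹ * R.e 0 b (c + 0 * b) * x, h1⟩ : V) = ⟨x⁻¹ * R.e 0 b c * x, h3⟩ := Subtype.ext (congrArg (fun t => x⁻¹ * t * x) (hu1 b c))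
    exact (congrArg (fun t : V => x * ((e t : V) : Ω) * x⁻¹) h2).trans ((h b c h3).trans (hu1 _ _).symm)
  · intro g
    obtain ⟨e, he, h⟩ := D.E4 (g.1 0 0) (g.1 0 1) (g.1 1 0) (g.1 1 1) (by
      have := g.2
      rwa [Matrix.det_fin_two] at this)
    refine ⟨e, he, fun b c h1 => ?_⟩
    have h3 : x⁻¹ * R.e 0 b c * x ∈ V := by rw [D.xinv]; exact D.V_mem _ _
    have h2 : (⟨x⁻¹ * R.e 0 b (c + 0 * b) * x, h1⟩ : V) = ⟨x⁻¹ * R.e 0 b c * x, h3⟩ := Subtype.ext (congrArg (fun t => x⁻¹ * t * x) (hu1 b c))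
    exact (congrArg (fun t : V => x * ((e t : V) : Ω) * x⁻¹) h2).trans ((h b c h3).trans (hu1 _ _).symm)

end Cfsg.Agent.H770.Hen
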