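import Cfsg.Agent.H770.Hen.Crd
import Cfsg.Agent.H802.FusNorm
import Cfsg.Agent.H802.FusCentric
import Mathlib.Algebra.CharP.Two

/-!
# S5175, sections L and J3: the calculus of coordinates (helper770)
-/

set_option autoImplicit false

namespace Cfsg.Agent.H770.Hen

open Cfsg Cfsg.FusionSystem Cfsg.Agent.H802

/-- The group relations. -/
structure Rel (Ω : Type*) [Group Ω] (K : Type) [Field K] (σ : K ≃+* K) where
  va : K → Ω
  wb : K → Ω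
  zc : K → Ω
  y : Ω
  va_add : ∀ a b, va (a + b) = va a * va b
  wb_add : ∀ a b, wb (a + b) = wb a * wb b
  zc_add : ∀ a b, zc (a + b) = zc a * zc b
  va_zc : ∀ a c, va a * zc c = zc c * va a
  wb_zc : ∀ b c, wb b * zc c = zc c * wb b
  va_wb : ∀ a b, va a * wb b = wb b * va a * zc (a * b)
  inj : ∀ a b c, wb b * va a * zc c = 1 → a = 0 ∧ b = 0 ∧ c = 0
  sig : ∀ a, σ (σ a) = a
  y_sq : ∃ k, y * y = zc k
  y_va : ∀ a, y * va a * y⁻¹ = wb (σ a)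
  y_zc : ∀ c, y * zc c * y⁻¹ = zc (σ c)
  y_not : ∀ a b c, y ≠ wb b * va a * zc c

namespace Rel

variable {Ω : Type*} [Group Ω] {K : Type} [Field K] {σ : K ≃+* K} (R : Rel Ω K σ)

theorem va_zero : R.va 0 = 1 := by
  have := R.va_add 0 0
  rw [add_zero] at this
  have h : R.va 0 * 1 = R.va 0 * R.va 0 := by rw [mul_one]; exact this
  exact (mul_left_cancel h).symm

theorem wb_zero : R.wb 0 = 1 := by
  have := R.wb_add 0 0
  rw [add_zero] at this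
  have h : R.wb 0 * 1 = R.wb 0 * R.wb 0 := by rw [mul_one]; exact this
  exact (mul_left_cancel h).symm

theorem zc_zero : R.zc 0 = 1 := by
  have := R.zc_add 0 0
  rw [add_zero] at this
  have h : R.zc 0 * 1 = R.zc 0 * R.zc 0 := by rw [mul_one]; exact this
  exact (mul_left_cancel h).symm

/-- The general element of `T`. -/
def e (a b c : K) : Ω := R.wb b * R.va a * R.zc c

theorem e_mul (a b c a' b' c' : K) : R.e a b c * R.e a' b' c' = R.e (a + a') (b + b') (c + c' + a * b') := by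
  unfold e
  have h1 : R.wb b * R.va a * R.zc c * (R.wb b' * R.va a' * R.zc c') =
      R.wb b * R.va a * (R.zc c * R.wb b') * R.va a' * R.zc c' := by group
  rw [h1, ← R.wb_zc]
  have h2 : R.wb b * R.va a * (R.wb b' * R.zc c) * R.va a' * R.zc c' =
      R.wb b * (R.va a * R.wb b') * (R.zc c * R.va a') * R.zc c' := by group
  rw [h2, R.va_wb, ← R.va_zc]
  have h3 : R.wb b * (R.wb b' * R.va a * R.zc (a * b')) * (R.va a' * R.zc c) * R.zc c' =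
      R.wb b * R.wb b' * R.va a * (R.zc (a * b') * R.va a') * (R.zc c * R.zc c') := by group
  rw [h3, ← R.va_zc, R.va_add, R.wb_add, R.zc_add, R.zc_add]
  have h4 : R.zc c * R.zc c' * R.zc (a * b') = R.zc (a * b') * (R.zc c * R.zc c') := by
    rw [← R.zc_add, ← R.zc_add, ← R.zc_add]
    congr 1
    ring
  rw [h4]
  group

theorem e_zero : R.e 0 0 0 = 1 := by
  unfold e
  rw [R.va_zero, R.wb_zero, R.zc_zero]
  group

theorem e_inv (a b c : K) : (R.e a b c)⁻¹ = R.e (-a) (-b) (-c + a * b) := by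
  rw [inv_eq_iff_mul_eq_one, R.e_mul]
  have h1 : a + -a = 0 := by ring
  have h2 : b + -b = 0 := by ring
  have h3 : c + (-c + a * b) + a * -b = 0 := by ring
  rw [h1, h2, h3, R.e_zero]

theorem e_eq_one {a b c : K} (h : R.e a b c = 1) : a = 0 ∧ b = 0 ∧ c = 0 := R.inj a b c h

theorem e_inj {a b c a' b' c' : K} (h : R.e a b c = R.e a' b' c') : a = a' ∧ b = b' ∧ c = c' := by
  have h1 : R.e a b c * (R.e a' b' c')⁻¹ = 1 := by rw [h, mul_inv_cancel]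
  rw [R.e_inv, R.e_mul] at h1
  obtain ⟨h2, h3, h4⟩ := R.e_eq_one h1
  have ha : a = a' := by linear_combination h2
  have hb : b = b' := by linear_combination h3
  refine ⟨ha, hb, ?_⟩
  subst ha hb
  linear_combination h4

theorem va_eq (a : K) : R.va a = R.e a 0 0 := by
  unfold e
  rw [R.wb_zero, R.zc_zero]; group

theorem wb_eq (b : K) : R.wb b = R.e 0 b 0 := by
  unfold e
  rw [R.va_zero, R.zc_zero]; group

theorem zc_eq (c : K) : R.zc c = R.e 0 0 c := by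
  unfold e
  rw [R.va_zero, R.wb_zero]; group

theorem vz_eq (a c : K) : R.va a * R.zc c = R.e a 0 c := by
  unfold e
  rw [R.wb_zero]; group

theorem wz_eq (b c : K) : R.wb b * R.zc c = R.e 0 b c := by
  unfold e
  rw [R.va_zero]; group

theorem y_sq_comm (a b c : K) : R.y * R.y * R.e a b c = R.e a b c * (R.y * R.y) := by
  obtain ⟨k, hk⟩ := R.y_sq
  rw [hk, R.zc_eq, R.e_mul, R.e_mul]
  congr 1 <;> ring

theorem y_wb (b : K) : R.y * R.wb b * R.y⁻¹ = R.va (σ b) := by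
  have h1 := R.y_va (σ b)
  rw [R.sig] at h1
  rw [← h1]
  have h2 : R.y * (R.y * R.va (σ b) * R.y⁻¹) * R.y⁻¹ = R.y * R.y * R.va (σ b) * (R.y * R.y)⁻¹ := by group
  rw [h2, R.va_eq, R.y_sq_comm, mul_inv_cancel_right]

theorem y_e (a b c : K) : R.y * R.e a b c * R.y⁻¹ = R.e (σ b) (σ a) (σ (c + a * b)) := by
  have h1 : R.y * R.e a b c * R.y⁻¹ = (R.y * R.wb b * R.y⁻¹) * (R.y * R.va a * R.y⁻¹) * (R.y * R.zc c * R.y⁻¹) := by
    unfold e; group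
  rw [h1, R.y_va, R.y_wb, R.y_zc, R.va_wb]
  unfold e
  rw [mul_assoc, ← R.zc_add]
  congr 2
  rw [map_add, map_mul]
  ring

/-- conjugation in `T` -/
theorem e_conj (a b c a' b' c' : K) : R.e a b c * R.e a' b' c' * (R.e a b c)⁻¹ =
    R.e a' b' (c' + a * b' - a' * b) := by
  rw [R.e_inv, R.e_mul, R.e_mul]
  congr 1 <;> ring

theorem y_inv_e (a b c : K) : R.y⁻¹ * R.e a b c * R.y = R.e (σ b) (σ a) (σ (c + a * b)) := by
  have h := R.y_e (σ b) (σ a) (σ (c + a * b))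
  rw [R.sig, R.sig] at h
  have h2 : σ (σ (c + a * b) + σ b * σ a) = c + a * b + a * b := by
    rw [← map_mul, ← map_add, R.sig]; ring
  rw [h2] at h
  -- `y² ` commutes with `T`
  have h3 := R.y_e a b c
  have h4 : R.y⁻¹ * R.e a b c * R.y = (R.y * R.y)⁻¹ * (R.y * R.e a b c * R.y⁻¹) * (R.y * R.y) := by group
  rw [h4, h3, mul_assoc, ← R.y_sq_comm, ← mul_assoc, inv_mul_cancel, one_mul]

/-- the two cosets -/
theorem e_mul_y_ne (a b c a' b' c' : K) : R.e a b c * R.y ≠ R.e a' b' c' := by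
  intro h
  have h1 : R.y = (R.e a b c)⁻¹ * R.e a' b' c' := by rw [← h]; group
  rw [R.e_inv, R.e_mul] at h1
  exact R.y_not _ _ _ h1

/-- The group `T`. -/
def T : Subgroup Ω where
  carrier := {t | ∃ a b c, t = R.e a b c}
  one_mem' := ⟨0, 0, 0, R.e_zero.symm⟩
  mul_mem' := by
    rintro _ _ ⟨a, b, c, rfl⟩ ⟨a', b', c', rfl⟩
    exact ⟨_, _, _, R.e_mul _ _ _ _ _ _⟩
  inv_mem' := by
    rintro _ ⟨a, b, c, rfl⟩
    exact ⟨_, _, _, R.e_inv _ _ _⟩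

theorem mem_T {t : Ω} : t ∈ R.T ↔ ∃ a b c, t = R.e a b c := Iff.rfl

theorem e_mem_T (a b c : K) : R.e a b c ∈ R.T := ⟨a, b, c, rfl⟩

/-- The group `V`. -/
def Vg : Subgroup Ω where
  carrier := {t | ∃ a c, t = R.e a 0 c}
  one_mem' := ⟨0, 0, R.e_zero.symm⟩
  mul_mem' := by
    rintro _ _ ⟨a, c, rfl⟩ ⟨a', c', rfl⟩
    exact ⟨_, _, (R.e_mul _ _ _ _ _ _).trans (by rw [add_zero])⟩
  inv_mem' := by
    rintro _ ⟨a, c, rfl⟩
    exact ⟨_, _, (R.e_inv _ _ _).trans (by rw [neg_zero])⟩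

/-- The group `V'`. -/
def Wg : Subgroup Ω where
  carrier := {t | ∃ b c, t = R.e 0 b c}
  one_mem' := ⟨0, 0, R.e_zero.symm⟩
  mul_mem' := by
    rintro _ _ ⟨a, c, rfl⟩ ⟨a', c', rfl⟩
    exact ⟨_, _, (R.e_mul _ _ _ _ _ _).trans (by rw [add_zero])⟩
  inv_mem' := by
    rintro _ ⟨a, c, rfl⟩
    exact ⟨_, _, (R.e_inv _ _ _).trans (by rw [neg_zero])⟩

/-- The group `Z`. -/
def Zg : Subgroup Ω where
  carrier := {t | ∃ c, t = R.e 0 0 c}
  one_mem' := ⟨0, R.e_zero.symm⟩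
  mul_mem' := by
    rintro _ _ ⟨c, rfl⟩ ⟨c', rfl⟩
    exact ⟨_, (R.e_mul _ _ _ _ _ _).trans (by rw [add_zero])⟩
  inv_mem' := by
    rintro _ ⟨c, rfl⟩
    exact ⟨_, (R.e_inv _ _ _).trans (by rw [neg_zero])⟩

theorem mem_Vg {t : Ω} : t ∈ R.Vg ↔ ∃ a c, t = R.e a 0 c := Iff.rfl
theorem mem_Wg {t : Ω} : t ∈ R.Wg ↔ ∃ b c, t = R.e 0 b c := Iff.rfl
theorem mem_Zg {t : Ω} : t ∈ R.Zg ↔ ∃ c, t = R.e 0 0 c := Iff.rfl

/-- The group `S`. -/
def Sg : Subgroup Ω where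
  carrier := {s | ∃ a b c, s = R.e a b c ∨ s = R.e a b c * R.y}
  one_mem' := ⟨0, 0, 0, Or.inl R.e_zero.symm⟩
  mul_mem' := by
    obtain ⟨k, hk⟩ := R.y_sq
    have hy : ∀ a b c, R.y * R.e a b c = R.e (σ b) (σ a) (σ (c + a * b)) * R.y := by
      intro a b c
      rw [← R.y_e, inv_mul_cancel_right]
    rintro _ _ ⟨a, b, c, rfl | rfl⟩ ⟨a', b', c', rfl | rfl⟩
    · exact ⟨_, _, _, Or.inl (R.e_mul _ _ _ _ _ _)⟩
    · exact ⟨_, _, _, Or.inr (by rw [← mul_assoc, R.e_mul])⟩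
    · exact ⟨_, _, _, Or.inr (by rw [mul_assoc, hy, ← mul_assoc, R.e_mul])⟩
    · refine ⟨a + σ b' + 0, b + σ a' + 0, c + σ (c' + a' * b') + a * σ a' + k + (a + σ b') * 0, Or.inl ?_⟩
      rw [← mul_assoc, mul_assoc (R.e a b c), hy, ← mul_assoc, mul_assoc, hk, R.zc_eq, R.e_mul, R.e_mul]
  inv_mem' := by
    obtain ⟨k, hk⟩ := R.y_sq
    rintro _ ⟨a, b, c, rfl | rfl⟩
    · exact ⟨_, _, _, Or.inl (R.e_inv _ _ _)⟩
    · have h1 : (R.e a b c * R.y)⁻¹ = (R.y⁻¹ * (R.e a b c)⁻¹ * R.y) * (R.y * R.y)⁻¹ * R.y := by group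
      rw [R.e_inv, R.y_inv_e, hk, R.zc_eq, R.e_inv, R.e_mul] at h1
      exact ⟨_, _, _, Or.inr h1⟩

theorem mem_Sg {s : Ω} : s ∈ R.Sg ↔ ∃ a b c, s = R.e a b c ∨ s = R.e a b c * R.y := Iff.rfl

theorem e_mem_V (a c : K) : R.e a 0 c ∈ R.Vg := ⟨a, c, rfl⟩
theorem e_mem_W (b c : K) : R.e 0 b c ∈ R.Wg := ⟨b, c, rfl⟩
theorem e_mem_Z (c : K) : R.e 0 0 c ∈ R.Zg := ⟨c, rfl⟩

theorem T_le_Sg : R.T ≤ R.Sg := by
  rintro _ ⟨a, b, c, rfl⟩
  exact ⟨a, b, c, Or.inl rfl⟩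

theorem Vg_le_T : R.Vg ≤ R.T := by
  rintro _ ⟨a, c, rfl⟩
  exact ⟨_, _, _, rfl⟩

theorem Wg_le_T : R.Wg ≤ R.T := by
  rintro _ ⟨a, c, rfl⟩
  exact ⟨_, _, _, rfl⟩

theorem Zg_le_Vg : R.Zg ≤ R.Vg := by
  rintro _ ⟨c, rfl⟩
  exact ⟨_, _, rfl⟩

theorem Zg_le_Wg : R.Zg ≤ R.Wg := by
  rintro _ ⟨c, rfl⟩
  exact ⟨_, _, rfl⟩

theorem y_mem_Sg : R.y ∈ R.Sg := ⟨0, 0, 0, Or.inr (by rw [R.e_zero, one_mul])⟩

theorem y_not_mem_T : R.y ∉ R.T := fun ⟨a, b, c, h⟩ => R.y_not a b c h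

theorem e_y_not_mem_T (a b c : K) : R.e a b c * R.y ∉ R.T := fun ⟨_, _, _, h⟩ => R.e_mul_y_ne _ _ _ _ _ _ h

end Rel

end Cfsg.Agent.H770.Hen
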