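import Cfsg.Agent.H770.Hen.FSys
import Cfsg.Prelude.Def_Transfer

/-!
# S5175, the case J3: definitions and statements of the pieces (helper770)
-/

set_option autoImplicit false

namespace Cfsg.Agent.H770.Hen

open Cfsg Cfsg.FusionSystem Cfsg.Agent.H802

universe u

namespace Rel

variable {Ω : Type*} [Group Ω] {K : Type} [Field K] {σ : K ≃+* K} (R : Rel Ω K σ)

theorem y_d (a c : K) : R.y * R.e a (σ a) c = R.e a (σ a) (σ (c + a * σ a)) * R.y := by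
  have h := R.y_e a (σ a) c
  rw [R.sig] at h
  rw [← h]; group

/-- The group `R₀ = {e(a, σa, c) y^i}`; for `|K| = 4` it is extraspecial of order 32 and minus type. -/
def R0 : Subgroup Ω where
  carrier := {s | ∃ a c, s = R.e a (σ a) c ∨ s = R.e a (σ a) c * R.y}
  one_mem' := ⟨0, 0, Or.inl (by rw [map_zero, R.e_zero])⟩
  mul_mem' := by
    obtain ⟨k, hk⟩ := R.y_sq
    rintro _ _ ⟨a, c, rfl | rfl⟩ ⟨a', c', rfl | rfl⟩
    · exact ⟨_, _, Or.inl (by rw [R.e_mul, ← map_add])⟩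
    · exact ⟨_, _, Or.inr (by rw [← mul_assoc, R.e_mul, ← map_add])⟩
    · exact ⟨_, _, Or.inr (by rw [mul_assoc, R.y_d, ← mul_assoc, R.e_mul, ← map_add])⟩
    · refine ⟨a + a' + 0, c + σ (c' + a' * σ a') + a * σ a' + k + (a + a') * 0, Or.inl ?_⟩
      rw [← mul_assoc, mul_assoc (R.e a (σ a) c), R.y_d, ← mul_assoc, mul_assoc, hk, R.zc_eq, R.e_mul, R.e_mul]
      congr 1
      rw [map_add, map_add, map_zero]
  inv_mem' := by
    obtain ⟨k, hk⟩ := R.y_sq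
    rintro _ ⟨a, c, rfl | rfl⟩
    · exact ⟨_, _, Or.inl (by rw [R.e_inv, ← map_neg])⟩
    · have h1 : (R.e a (σ a) c * R.y)⁻¹ = (R.y⁻¹ * (R.e a (σ a) c)⁻¹ * R.y) * (R.y * R.y)⁻¹ * R.y := by group
      rw [R.e_inv, R.y_inv_e, hk, R.zc_eq, R.e_inv, R.e_mul] at h1
      refine ⟨-a + 0, σ (-c + a * σ a + -a * -σ a) + (-k + 0 * 0) + -a * 0, Or.inr ?_⟩
      rw [h1]
      congr 2
      · rw [← map_neg, R.sig]; simp
      · rw [map_add, map_neg, map_zero]; simp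
      · rw [← map_neg, R.sig]; simp

theorem mem_R0 {s : Ω} : s ∈ R.R0 ↔ ∃ a c, s = R.e a (σ a) c ∨ s = R.e a (σ a) c * R.y := Iff.rfl

end Rel

/-- The data in the case J3: `|K| = 4`, `σ` the Frobenius automorphism, `y² = 1`, `R₀` essential. -/
structure JSys {Ω : Type*} [Group Ω] {S : Subgroup Ω} (F : FusionSystem S) {K : Type} [Field K] [Fintype K]
    {σ : K ≃+* K} (R : Rel Ω K σ) : Prop where
  fs : FSys F R
  card : Fintype.card K = 4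
  frob : ∀ a, σ a = a * a
  y_sq : R.y * R.y = 1
  ess : F.IsEssential 2 R.R0

/-- JA: the automizer of `R₀` is the unique subgroup of index two of `Aut(2^{1+4}_-) = 2⁴.S₅`. -/
def StJA : Prop :=
  ∀ {Ω : Type u} [Group Ω] {S : Subgroup Ω} [Finite S], IsPGroup 2 S →
    ∀ (F : FusionSystem S), F.IsSaturated 2 →
    ∀ (K : Type) [Field K] [Fintype K] (σ : K ≃+* K) (R : Rel Ω K σ), JSys F R →
    F.autGroup R.R0 = pResidual 2 (MulAut R.R0)

/-- JB: `Aut_F(V) = GL₂(K)`. -/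
def StJB : Prop :=
  ∀ {Ω : Type u} [Group Ω] {S : Subgroup Ω} [Finite S], IsPGroup 2 S →
    ∀ (F : FusionSystem S), F.IsSaturated 2 →
    ∀ (K : Type) [Field K] [Fintype K] (σ : K ≃+* K) (R : Rel Ω K σ), JSys F R →
    F.autGroup R.R0 = pResidual 2 (MulAut R.R0) →
    (∀ p q r s : K, p * s - q * r ≠ 0 → ∃ φ ∈ F.Hom R.Vg, ∀ (a c : K) (h : R.e a 0 c ∈ R.Vg),
      φ ⟨R.e a 0 c, h⟩ = R.e (r * c + s * a) 0 (p * c + q * a)) ∧
    ∀ φ ∈ F.Hom R.Vg, (∀ v : R.Vg, φ v ∈ R.Vg) → ∃ p q r s : K, p * s - q * r ≠ 0 ∧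
      ∀ (a c : K) (h : R.e a 0 c ∈ R.Vg), φ ⟨R.e a 0 c, h⟩ = R.e (r * c + s * a) 0 (p * c + q * a)

/-- JU: uniqueness of `F` on the same `S`. -/
def StJU : Prop :=
  ∀ {Ω : Type u} [Group Ω] {S : Subgroup Ω} [Finite S], IsPGroup 2 S →
    ∀ (F F' : FusionSystem S), F.IsSaturated 2 → F'.IsSaturated 2 →
    ∀ (K : Type) [Field K] [Fintype K] (σ : K ≃+* K) (R : Rel Ω K σ), JSys F R → JSys F' R →
    F.autGroup R.Vg = F'.autGroup R.Vg → F.autGroup R.R0 = F'.autGroup R.R0 →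
    (∀ Q : Subgroup Ω, F.IsEssential 2 Q → Q = R.Vg ∨ Q = R.Wg ∨ Q = R.T ∨ Q = R.R0) →
    ∀ P : Subgroup Ω, F.Hom P ⊆ F'.Hom P

end Cfsg.Agent.H770.Hen
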