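import Cfsg.Agent.H770.Hen.Coord
import Cfsg.Agent.H770.Hen.JDefs
import Cfsg.Agent.H302.Hen.Lin

/-!
# S5175, sections L and J3: the fusion system in coordinates (helper770)
-/

set_option autoImplicit false

namespace Cfsg.Agent.H770.Hen

open Cfsg Cfsg.FusionSystem Cfsg.Agent.H802 Cfsg.Agent.H756.HM

namespace Rel

variable {Ω : Type*} [Group Ω] {K : Type} [Field K] {σ : K ≃+* K} (R : Rel Ω K σ)

/-- the vector coordinates of `V` -/
noncomputable def vE : Multiplicative (Fin 2 → K) ≃* R.Vg :=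
  MulEquiv.ofBijective (MonoidHom.mk' (fun u : Multiplicative (Fin 2 → K) =>
      (⟨R.e (Multiplicative.toAdd u 1) 0 (Multiplicative.toAdd u 0), R.e_mem_V _ _⟩ : R.Vg))
    (fun u v => Subtype.ext (by
      show R.e (Multiplicative.toAdd (u * v) 1) 0 (Multiplicative.toAdd (u * v) 0) =
        R.e (Multiplicative.toAdd u 1) 0 (Multiplicative.toAdd u 0) *
          R.e (Multiplicative.toAdd v 1) 0 (Multiplicative.toAdd v 0)
      rw [R.e_mul, toAdd_mul, Pi.add_apply, Pi.add_apply]
      congr 1 <;> ring)))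
    ⟨fun u v h => by
        have h1 : R.e (Multiplicative.toAdd u 1) 0 (Multiplicative.toAdd u 0) =
            R.e (Multiplicative.toAdd v 1) 0 (Multiplicative.toAdd v 0) := congrArg Subtype.val h
        obtain ⟨h2, -, h3⟩ := R.e_inj h1
        apply Multiplicative.toAdd.injective
        ext i
        fin_cases i
        · exact h3
        · exact h2,
      fun v => by
        obtain ⟨a, c, h⟩ := R.mem_Vg.1 v.2
        exact ⟨Multiplicative.ofAdd ![c, a], Subtype.ext h.symm⟩⟩

theorem vE_apply (u : Fin 2 → K) : ((R.vE (Multiplicative.ofAdd u) : R.Vg) : Ω) = R.e (u 1) 0 (u 0) := rfl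

theorem vE_symm (a c : K) (h : R.e a 0 c ∈ R.Vg) :
    Multiplicative.toAdd (R.vE.symm ⟨R.e a 0 c, h⟩) = ![c, a] := by
  have h1 : R.vE (Multiplicative.ofAdd ![c, a]) = ⟨R.e a 0 c, h⟩ := Subtype.ext rfl
  rw [← h1, MulEquiv.symm_apply_apply]
  rfl

end Rel

/-- the matrix of determinant one with given entries -/
def mk2 {K : Type} [Field K] (p q r s : K) (hd : p * s - q * r = 1) : Matrix.SpecialLinearGroup (Fin 2) K :=
  ⟨!![p, q; r, s], by rw [Matrix.det_fin_two_of]; exact hd⟩

theorem act_mk2_zero {K : Type} [Field K] (p q r s : K) (hd : p * s - q * r = 1) (u : Fin 2 → K) :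
    H302.Hen.act (mk2 p q r s hd) u 0 = p * u 0 + q * u 1 := by
  rw [H302.Hen.act_apply_zero]; rfl

theorem act_mk2_one {K : Type} [Field K] (p q r s : K) (hd : p * s - q * r = 1) (u : Fin 2 → K) :
    H302.Hen.act (mk2 p q r s hd) u 1 = r * u 0 + s * u 1 := by
  rw [H302.Hen.act_apply_one]; rfl

/-- `F` in coordinates. -/
theorem BRel.fsys {Ω : Type*} [Group Ω] {S : Subgroup Ω} [Finite S] {F : FusionSystem S} {K : Type} [Field K]
    [Fintype K] {V T : Subgroup Ω} {x : Ω} {B : Big F K V T x} {σ : K ≃+* K} {R : Rel Ω K σ} (D : BRel B R) :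
    FSys F R := by
  obtain ⟨hS, hT, hV, hW, hxy, hE1, hE2⟩ := D
  subst hV
  have hVS : R.Vg ≤ S := B.V_le
  have hfin : Finite R.Vg := R.finite_Vg
  refine ⟨hS, ?_, ?_⟩
  · intro p q r s hd
    obtain ⟨e, he, h⟩ := hE2 p q r s hd
    exact ⟨_, (mem_autGroup_iff F hVS e).1 (B.E_le he), fun a c h1 => h a c h1⟩
  · intro φ hφ hφV
    obtain ⟨α, hα, hαe⟩ := exists_aut hφ (range_eq_of_mapsTo hφ hφV)
    let g : (Fin 2 → K) ≃+ (Fin 2 → K) :=
      { toFun := fun u => Multiplicative.toAdd (R.vE.symm (α (R.vE (Multiplicative.ofAdd u))))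
        invFun := fun u => Multiplicative.toAdd (R.vE.symm (α.symm (R.vE (Multiplicative.ofAdd u))))
        left_inv := fun u => by
          show Multiplicative.toAdd (R.vE.symm (α.symm (R.vE (R.vE.symm (α (R.vE (Multiplicative.ofAdd u))))))) = u
          rw [MulEquiv.apply_symm_apply, MulEquiv.symm_apply_apply, MulEquiv.symm_apply_apply]
          rfl
        right_inv := fun u => by
          show Multiplicative.toAdd (R.vE.symm (α (R.vE (R.vE.symm (α.symm (R.vE (Multiplicative.ofAdd u))))))) = u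
          rw [MulEquiv.apply_symm_apply, MulEquiv.apply_symm_apply, MulEquiv.symm_apply_apply]
          rfl
        map_add' := fun u v => by
          rw [ofAdd_add, map_mul, map_mul, map_mul, toAdd_mul] }
    have hg : ∀ u : Fin 2 → K, R.e (g u 1) 0 (g u 0) = ((α (R.vE (Multiplicative.ofAdd u)) : R.Vg) : Ω) := by
      intro u
      have h1 : g u = Multiplicative.toAdd (R.vE.symm (α (R.vE (Multiplicative.ofAdd u)))) := rfl
      rw [h1]
      have h2 := R.vE_apply (Multiplicative.toAdd (R.vE.symm (α (R.vE (Multiplicative.ofAdd u)))))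
      rw [← h2]
      congr 1
      exact R.vE.apply_symm_apply _
    have hg' : ∀ (u w : Fin 2 → K), R.e (w 1) 0 (w 0) = ((α (R.vE (Multiplicative.ofAdd u)) : R.Vg) : Ω) → g u = w := by
      intro u w h
      rw [← hg] at h
      obtain ⟨h1, -, h2⟩ := R.e_inj h
      ext i
      fin_cases i
      · exact h2.symm
      · exact h1.symm
    have key : ∀ M' : Matrix.SpecialLinearGroup (Fin 2) K, ∃ M : Matrix.SpecialLinearGroup (Fin 2) K,
        ∀ u, g (H302.Hen.act M u) = H302.Hen.act M' (g u) := by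
      intro M'
      obtain ⟨e', he', h'⟩ := hE2 (M' 0 0) (M' 0 1) (M' 1 0) (M' 1 1) (by
        have := M'.2
        rw [Matrix.det_fin_two] at this
        exact this)
      have h1 := B.E_nor α⁻¹ ((F.autGroup R.Vg).inv_mem hα) e' he'
      obtain ⟨p, q, r, s, hd, h2⟩ := hE1 _ h1
      refine ⟨mk2 p q r s hd, fun u => ?_⟩
      apply hg'
      have h3 : R.vE (Multiplicative.ofAdd (H302.Hen.act (mk2 p q r s hd) u)) =
          (α⁻¹ * e' * α⁻¹⁻¹) (R.vE (Multiplicative.ofAdd u)) := by
        apply Subtype.ext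
        rw [R.vE_apply, act_mk2_zero, act_mk2_one]
        have h4 := h2 (u 1) (u 0) (R.e_mem_V _ _)
        have h5 : (⟨R.e (u 1) 0 (u 0), R.e_mem_V _ _⟩ : R.Vg) = R.vE (Multiplicative.ofAdd u) := Subtype.ext rfl
        rw [h5] at h4
        rw [h4]
      rw [h3, inv_inv, MulAut.mul_apply, MulAut.mul_apply]
      have h4 : α (α⁻¹ (e' (α (R.vE (Multiplicative.ofAdd u))))) = e' (α (R.vE (Multiplicative.ofAdd u))) :=
        α.apply_symm_apply _
      rw [h4, H302.Hen.act_apply_zero, H302.Hen.act_apply_one]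
      have h5 : α (R.vE (Multiplicative.ofAdd u)) = ⟨R.e (g u 1) 0 (g u 0), R.e_mem_V _ _⟩ :=
        Subtype.ext (hg u).symm
      rw [h5, h']
    obtain ⟨τ, hτ⟩ := H302.Hen.semilinear g key
    have hbij : Function.Bijective τ := Finite.injective_iff_bijective.1 τ.injective
    let θ : K ≃+* K := RingEquiv.ofBijective τ hbij
    have hθ : ∀ a, θ a = τ a := fun _ => rfl
    set u1 : Fin 2 → K := g ![1, 0] with hu1
    set u2 : Fin 2 → K := g ![0, 1] with hu2
    have hdec : ∀ a c : K, g ![c, a] = θ c • u1 + θ a • u2 := by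
      intro a c
      have h1 : (![c, a] : Fin 2 → K) = c • ![1, 0] + a • ![0, 1] := by
        ext i; fin_cases i <;> simp
      rw [h1, map_add, hτ, hτ]
      rfl
    have hform : ∀ (a c : K) (h : R.e a 0 c ∈ R.Vg), φ ⟨R.e a 0 c, h⟩ =
        R.e (u1 1 * θ c + u2 1 * θ a) 0 (u1 0 * θ c + u2 0 * θ a) := by
      intro a c h
      rw [← hαe]
      have h1 : (⟨R.e a 0 c, h⟩ : R.Vg) = R.vE (Multiplicative.ofAdd ![c, a]) := Subtype.ext rfl
      rw [h1, ← hg, hdec]
      simp only [Pi.add_apply, Pi.smul_apply, smul_eq_mul]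
      congr 1 <;> ring
    refine ⟨θ, u1 0, u2 0, u1 1, u2 1, ?_, hform⟩
    intro hdet
    have hz : ∀ a c : K, u1 1 * c + u2 1 * a = 0 → u1 0 * c + u2 0 * a = 0 → a = 0 ∧ c = 0 := by
      intro a c h1 h2
      have h3 := hform (θ.symm a) (θ.symm c) (R.e_mem_V _ _)
      rw [θ.apply_symm_apply, θ.apply_symm_apply, h1, h2, R.e_zero] at h3
      have h4 : (⟨R.e (θ.symm a) 0 (θ.symm c), R.e_mem_V _ _⟩ : R.Vg) = 1 := by
        apply F.injective_of_mem hφ
        rw [h3, map_one]
      obtain ⟨h5, -, h6⟩ := R.e_eq_one (congrArg Subtype.val h4)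
      exact ⟨(map_eq_zero θ.symm).1 h5, (map_eq_zero θ.symm).1 h6⟩
    obtain ⟨h1, h2⟩ := hz (-(u1 1)) (u2 1) (by ring) (by linear_combination hdet)
    obtain ⟨h3, h4⟩ := hz (u1 0) (-(u2 0)) (by linear_combination hdet) (by ring)
    have h5 : u1 = 0 := by
      ext i
      fin_cases i
      · exact h3
      · exact neg_eq_zero.1 h1
    have h6 : (![1, 0] : Fin 2 → K) = 0 := by
      apply g.injective
      rw [map_zero]
      exact h5
    have h7 := congrFun h6 0
    simp at h7

end Cfsg.Agent.H770.Hen
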