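import Cfsg.Agent.H770.Hen.Calc

/-!
# S5175, sections L and J3: subgroups of `S` in coordinates (helper770)
-/

set_option autoImplicit false

namespace Cfsg.Agent.H770.Hen

open Cfsg Cfsg.FusionSystem Cfsg.Agent.H802

namespace Rel

variable {Ω : Type*} [Group Ω] {K : Type} [Field K] {σ : K ≃+* K} (R : Rel Ω K σ)

include R in
/-- the relations force characteristic two -/
theorem two (a : K) : a + a = 0 := by
  have h1 := R.y_e 1 1 0
  have h2 : R.y * (R.y * R.e 1 1 0 * R.y⁻¹) * R.y⁻¹ = R.e 1 1 0 := by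
    have h3 : R.y * (R.y * R.e 1 1 0 * R.y⁻¹) * R.y⁻¹ = R.y * R.y * R.e 1 1 0 * (R.y * R.y)⁻¹ := by group
    rw [h3, R.y_sq_comm, mul_inv_cancel_right]
  rw [h1, R.y_e] at h2
  obtain ⟨-, -, h3⟩ := R.e_inj h2
  have h4 : (1 : K) + 1 = 0 := by
    have h5 : σ (σ (0 + 1 * 1) + σ 1 * σ 1) = 1 + 1 := by
      simp
    rw [h5] at h3
    exact h3
  linear_combination a * h4

include R in
theorem neg_eq (a : K) : -a = a := by linear_combination -(R.two a)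

theorem e_sq (a b c : K) : R.e a b c * R.e a b c = R.e 0 0 (a * b) := by
  rw [R.e_mul, R.two, R.two, R.two, zero_add]

theorem e_sq_eq_one {a b c : K} (h : R.e a b c ^ 2 = 1) : a = 0 ∨ b = 0 := by
  rw [pow_two, R.e_sq] at h
  exact mul_eq_zero.1 (R.e_eq_one h).2.2

/-- An elementary abelian subgroup of `T` is contained in `V` or in `V'`. -/
theorem le_of_sq {B : Subgroup Ω} (hB : B ≤ R.T) (hsq : ∀ x ∈ B, x ^ 2 = 1) : B ≤ R.Vg ∨ B ≤ R.Wg := by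
  by_contra hc
  push Not at hc
  obtain ⟨hv, hw⟩ := hc
  obtain ⟨x, hx, hxv⟩ := SetLike.not_le_iff_exists.1 hv
  obtain ⟨y, hy, hyw⟩ := SetLike.not_le_iff_exists.1 hw
  obtain ⟨a, b, c, rfl⟩ := hB hx
  obtain ⟨a', b', c', rfl⟩ := hB hy
  have hb : b ≠ 0 := fun h => hxv ⟨a, c, by rw [h]⟩
  have ha' : a' ≠ 0 := fun h => hyw ⟨b', c', by rw [h]⟩
  have ha : a = 0 := (R.e_sq_eq_one (hsq _ hx)).resolve_right hb
  have hb' : b' = 0 := (R.e_sq_eq_one (hsq _ hy)).resolve_left ha'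
  have hxy := hsq _ (B.mul_mem hx hy)
  rw [R.e_mul] at hxy
  rcases R.e_sq_eq_one hxy with h | h
  · rw [ha, zero_add] at h; exact ha' h
  · rw [hb', add_zero] at h; exact hb h

theorem card_Zg : Nat.card R.Zg = Nat.card K := by
  refine Nat.card_congr (Equiv.ofBijective (fun c : K => (⟨R.e 0 0 c, c, rfl⟩ : R.Zg)) ⟨?_, ?_⟩).symm
  · intro c c' h
    exact (R.e_inj (congrArg Subtype.val h)).2.2
  · rintro ⟨_, c, rfl⟩
    exact ⟨c, rfl⟩

theorem card_Vg : Nat.card R.Vg = Nat.card K * Nat.card K := by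
  rw [← Nat.card_prod]
  refine Nat.card_congr (Equiv.ofBijective (fun c : K × K => (⟨R.e c.1 0 c.2, c.1, c.2, rfl⟩ : R.Vg)) ⟨?_, ?_⟩).symm
  · intro c c' h
    obtain ⟨h1, -, h2⟩ := R.e_inj (congrArg Subtype.val h)
    exact Prod.ext h1 h2
  · rintro ⟨_, a, c, rfl⟩
    exact ⟨(a, c), rfl⟩

theorem card_Wg : Nat.card R.Wg = Nat.card K * Nat.card K := by
  rw [← Nat.card_prod]
  refine Nat.card_congr (Equiv.ofBijective (fun c : K × K => (⟨R.e 0 c.1 c.2, c.1, c.2, rfl⟩ : R.Wg)) ⟨?_, ?_⟩).symm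
  · intro c c' h
    obtain ⟨-, h1, h2⟩ := R.e_inj (congrArg Subtype.val h)
    exact Prod.ext h1 h2
  · rintro ⟨_, a, c, rfl⟩
    exact ⟨(a, c), rfl⟩

theorem finite_Vg [Finite K] : Finite R.Vg := by
  apply Nat.finite_of_card_ne_zero
  rw [R.card_Vg]
  exact mul_ne_zero Nat.card_pos.ne' Nat.card_pos.ne'

theorem finite_Wg [Finite K] : Finite R.Wg := by
  apply Nat.finite_of_card_ne_zero
  rw [R.card_Wg]
  exact mul_ne_zero Nat.card_pos.ne' Nat.card_pos.ne'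

theorem sq_Vg {x : Ω} (hx : x ∈ R.Vg) : x ^ 2 = 1 := by
  obtain ⟨a, c, rfl⟩ := hx
  rw [pow_two, R.e_sq, mul_zero, R.e_zero]

theorem sq_Wg {x : Ω} (hx : x ∈ R.Wg) : x ^ 2 = 1 := by
  obtain ⟨a, c, rfl⟩ := hx
  rw [pow_two, R.e_sq, zero_mul, R.e_zero]

theorem Vg_comm {x y : Ω} (hx : x ∈ R.Vg) (hy : y ∈ R.Vg) : x * y = y * x := by
  obtain ⟨a, c, rfl⟩ := hx
  obtain ⟨a', c', rfl⟩ := hy
  rw [R.e_mul, R.e_mul]
  congr 1 <;> ring

theorem Wg_comm {x y : Ω} (hx : x ∈ R.Wg) (hy : y ∈ R.Wg) : x * y = y * x := by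
  obtain ⟨a, c, rfl⟩ := hx
  obtain ⟨a', c', rfl⟩ := hy
  rw [R.e_mul, R.e_mul]
  congr 1 <;> ring

/-- conjugation by `e y` -/
theorem ey_conj (a b c a' b' c' : K) : R.e a b c * R.y * R.e a' b' c' * (R.e a b c * R.y)⁻¹ =
    R.e (σ b') (σ a') (σ (c' + a' * b') + a * σ a' - σ b' * b) := by
  have h1 : R.e a b c * R.y * R.e a' b' c' * (R.e a b c * R.y)⁻¹ =
      R.e a b c * (R.y * R.e a' b' c' * R.y⁻¹) * (R.e a b c)⁻¹ := by group
  rw [h1, R.y_e, R.e_conj]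

/-- elementary abelian subgroups of `S` -/
theorem el_cases [Finite K] {B : Subgroup Ω} (hB : B ≤ R.Sg) (hsq : ∀ x ∈ B, x ^ 2 = 1) :
    B ≤ R.Vg ∨ B ≤ R.Wg ∨ Nat.card B ≤ 2 * Nat.card K := by
  by_cases hT : B ≤ R.T
  · rcases R.le_of_sq hT hsq with h | h
    · exact Or.inl h
    · exact Or.inr (Or.inl h)
  right; right
  obtain ⟨t, ht, htT⟩ := SetLike.not_le_iff_exists.1 hT
  have hcomm : ∀ x ∈ B, ∀ y ∈ B, x * y = y * x := by
    intro x hx y hy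
    have h1 := hsq x hx
    have h2 := hsq y hy
    have h3 := hsq _ (B.mul_mem hx hy)
    rw [pow_two] at h1 h2 h3
    have h4 : x * y = (x * x) * (y * x) * (y * y) := by
      calc x * y = x * (x * y * (x * y)) * y := by rw [h3]; group
        _ = _ := by group
    rw [h4, h1, h2]; group
  obtain ⟨a0, b0, c0, rfl | rfl⟩ := hB ht
  · exact absurd ⟨a0, b0, c0, rfl⟩ htT
  have key : ∀ s ∈ B, s ∈ R.T → ∃ k, s = R.e 0 0 k := by
    intro s hs hsT
    obtain ⟨a, b, c, rfl⟩ := hsT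
    have h1 : R.e a0 b0 c0 * R.y * R.e a b c * (R.e a0 b0 c0 * R.y)⁻¹ = R.e a b c := by
      rw [hcomm _ ht _ hs, mul_inv_cancel_right]
    rw [R.ey_conj] at h1
    obtain ⟨h2, h3, -⟩ := R.e_inj h1
    rcases R.e_sq_eq_one (hsq _ hs) with h | h
    · rw [h, map_zero] at h3
      exact ⟨c, by rw [h, ← h3]⟩
    · rw [h, map_zero] at h2
      exact ⟨c, by rw [h, ← h2]⟩
  have hrep : ∀ s : B, ∃ i : Bool, ∃ k : K, (s : Ω) = R.e 0 0 k * (if i then 1 else R.e a0 b0 c0 * R.y) := by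
    intro s
    obtain ⟨a, b, c, h | h⟩ := hB s.2
    · obtain ⟨k, hk⟩ := key s s.2 (h ▸ R.e_mem_T a b c)
      exact ⟨true, k, by rw [hk]; simp⟩
    · have h1 : (s : Ω) * (R.e a0 b0 c0 * R.y)⁻¹ ∈ R.T := by
        rw [h]
        have : R.e a b c * R.y * (R.e a0 b0 c0 * R.y)⁻¹ = R.e a b c * (R.e a0 b0 c0)⁻¹ := by group
        rw [this]
        exact R.T.mul_mem (R.e_mem_T _ _ _) (R.T.inv_mem (R.e_mem_T _ _ _))
      obtain ⟨k, hk⟩ := key _ (B.mul_mem s.2 (B.inv_mem ht)) h1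
      refine ⟨false, k, ?_⟩
      rw [← hk, if_neg (by decide), inv_mul_cancel_right]
  choose i k hik using hrep
  have hinj : Function.Injective (fun s : B => (i s, k s)) := by
    intro s s' h
    have h1 : i s = i s' := congrArg Prod.fst h
    have h2 : k s = k s' := congrArg Prod.snd h
    apply Subtype.ext
    rw [hik s, hik s', h1, h2]
  have h1 := Nat.card_le_card_of_injective _ hinj
  rw [Nat.card_prod] at h1
  have h2 : Nat.card Bool = 2 := by simp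
  rwa [h2] at h1

theorem el_eq [Finite K] (hq : 4 ≤ Nat.card K) {B : Subgroup Ω} (hB : B ≤ R.Sg) (hsq : ∀ x ∈ B, x ^ 2 = 1)
    (hc : Nat.card K * Nat.card K ≤ Nat.card B) : B = R.Vg ∨ B = R.Wg := by
  have := R.finite_Vg
  have := R.finite_Wg
  rcases R.el_cases hB hsq with h | h | h
  · left
    exact Subgroup.eq_of_le_of_card_ge h (by rw [R.card_Vg]; exact hc)
  · right
    exact Subgroup.eq_of_le_of_card_ge h (by rw [R.card_Wg]; exact hc)
  · exfalso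
    have h1 : 4 * Nat.card K ≤ Nat.card K * Nat.card K := Nat.mul_le_mul_right _ hq
    omega

theorem Vg_ne_Wg : R.Vg ≠ R.Wg := by
  intro h
  have h1 : R.e 1 0 0 ∈ R.Wg := by rw [← h]; exact ⟨1, 0, rfl⟩
  obtain ⟨b, c, hbc⟩ := h1
  exact one_ne_zero (R.e_inj hbc).1

theorem Vg_inf_Wg {x : Ω} (h1 : x ∈ R.Vg) (h2 : x ∈ R.Wg) : x ∈ R.Zg := by
  obtain ⟨a, c, rfl⟩ := h1
  obtain ⟨b, c', h⟩ := h2
  exact ⟨c, by rw [(R.e_inj h).1]⟩

/-- `N_S(V) = T` -/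
theorem normalizerIn_Vg : normalizerIn R.Sg R.Vg = R.T := by
  ext x
  constructor
  · rintro ⟨⟨a, b, c, rfl | rfl⟩, h2⟩
    · exact R.e_mem_T _ _ _
    · exfalso
      have h3 := (Subgroup.mem_normalizer_iff.1 h2 (R.e 1 0 0)).1 ⟨1, 0, rfl⟩
      rw [R.ey_conj] at h3
      obtain ⟨a', c', h4⟩ := h3
      have h5 := (R.e_inj h4).2.1
      rw [map_one] at h5
      exact one_ne_zero h5
  · intro hx
    refine ⟨R.T_le_Sg hx, ?_⟩
    obtain ⟨a, b, c, rfl⟩ := hx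
    refine Subgroup.mem_normalizer_iff.2 ?_
    intro x
    constructor
    · rintro ⟨a', c', rfl⟩
      rw [R.e_conj]
      exact ⟨_, _, rfl⟩
    · rintro ⟨a', c', h⟩
      have h1 : x = (R.e a b c)⁻¹ * R.e a' 0 c' * ((R.e a b c)⁻¹)⁻¹ := by rw [← h]; group
      rw [h1, R.e_inv, R.e_conj]
      exact ⟨_, _, rfl⟩

/-- `N_S(V') = T` -/
theorem normalizerIn_Wg : normalizerIn R.Sg R.Wg = R.T := by
  ext x
  constructor
  · rintro ⟨⟨a, b, c, rfl | rfl⟩, h2⟩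
    · exact R.e_mem_T _ _ _
    · exfalso
      have h3 := (Subgroup.mem_normalizer_iff.1 h2 (R.e 0 1 0)).1 ⟨1, 0, rfl⟩
      rw [R.ey_conj] at h3
      obtain ⟨a', c', h4⟩ := h3
      have h5 := (R.e_inj h4).1
      rw [map_one] at h5
      exact one_ne_zero h5
  · intro hx
    refine ⟨R.T_le_Sg hx, ?_⟩
    obtain ⟨a, b, c, rfl⟩ := hx
    refine Subgroup.mem_normalizer_iff.2 ?_
    intro x
    constructor
    · rintro ⟨a', c', rfl⟩
      rw [R.e_conj]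
      exact ⟨_, _, rfl⟩
    · rintro ⟨a', c', h⟩
      have h1 : x = (R.e a b c)⁻¹ * R.e 0 a' c' * ((R.e a b c)⁻¹)⁻¹ := by rw [← h]; group
      rw [h1, R.e_inv, R.e_conj]
      exact ⟨_, _, rfl⟩

/-- `C_S(V) = V` -/
theorem mem_Vg_of_comm {x : Ω} (hx : x ∈ R.Sg) (h : ∀ v ∈ R.Vg, x * v = v * x) : x ∈ R.Vg := by
  have h1 := h (R.e 1 0 0) ⟨1, 0, rfl⟩
  rw [← mul_inv_eq_iff_eq_mul] at h1
  obtain ⟨a, b, c, rfl | rfl⟩ := hx
  · rw [R.e_conj] at h1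
    have h2 := (R.e_inj h1).2.2
    have h3 : b = 0 := by linear_combination -h2
    exact ⟨a, c, by rw [h3]⟩
  · exfalso
    rw [R.ey_conj] at h1
    have h5 := (R.e_inj h1).2.1
    rw [map_one] at h5
    exact one_ne_zero h5

theorem mem_Wg_of_comm {x : Ω} (hx : x ∈ R.Sg) (h : ∀ v ∈ R.Wg, x * v = v * x) : x ∈ R.Wg := by
  have h1 := h (R.e 0 1 0) ⟨1, 0, rfl⟩
  rw [← mul_inv_eq_iff_eq_mul] at h1
  obtain ⟨a, b, c, rfl | rfl⟩ := hx
  · rw [R.e_conj] at h1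
    have h2 := (R.e_inj h1).2.2
    have h3 : a = 0 := by linear_combination h2
    exact ⟨b, c, by rw [h3]⟩
  · exfalso
    rw [R.ey_conj] at h1
    have h5 := (R.e_inj h1).1
    rw [map_one] at h5
    exact one_ne_zero h5

/-- `C_S(T) = Z` -/
theorem mem_Zg_of_comm {x : Ω} (hx : x ∈ R.Sg) (h : ∀ v ∈ R.T, x * v = v * x) : x ∈ R.Zg :=
  R.Vg_inf_Wg (R.mem_Vg_of_comm hx fun v hv => h v (R.Vg_le_T hv))
    (R.mem_Wg_of_comm hx fun v hv => h v (R.Wg_le_T hv))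

theorem Zg_comm {x t : Ω} (hx : x ∈ R.Zg) (ht : t ∈ R.T) : x * t = t * x := by
  obtain ⟨c, rfl⟩ := hx
  obtain ⟨a', b', c', rfl⟩ := ht
  rw [R.e_mul, R.e_mul]
  congr 1 <;> ring

theorem finite_Sg [Finite K] : Finite R.Sg := by
  have h : ∀ s : R.Sg, ∃ i : Bool, ∃ t : K × K × K, (s : Ω) = R.e t.1 t.2.1 t.2.2 * (if i then 1 else R.y) := by
    rintro ⟨_, a, b, c, rfl | rfl⟩
    · exact ⟨true, (a, b, c), by simp⟩
    · exact ⟨false, (a, b, c), by simp⟩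
  choose i t hit using h
  refine Finite.of_injective (fun s => (i s, t s)) ?_
  intro s s' h
  have h1 : i s = i s' := congrArg Prod.fst h
  have h2 : t s = t s' := congrArg Prod.snd h
  apply Subtype.ext
  rw [hit s, hit s', h1, h2]

/-- `yz` for `z ∈ Z` instead of `y` -/
def twist (j : K) (k : K) (hk : R.y * R.y = R.zc k) : Rel Ω K σ where
  va := R.va
  wb := R.wb
  zc := R.zc
  y := R.y * R.zc j
  va_add := R.va_add
  wb_add := R.wb_add
  zc_add := R.zc_add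
  va_zc := R.va_zc
  wb_zc := R.wb_zc
  va_wb := R.va_wb
  inj := R.inj
  sig := R.sig
  y_sq := ⟨k + σ j + j, by
    have h1 : R.y * R.zc j * (R.y * R.zc j) = R.y * R.y * (R.y⁻¹ * R.zc j * R.y) * R.zc j := by group
    rw [h1, hk, R.zc_eq j, R.y_inv_e, R.zc_eq k, R.e_mul, R.e_mul, R.zc_eq]
    congr 1 <;> simp⟩
  y_va a := by
    have h1 : R.y * R.zc j * R.va a * (R.y * R.zc j)⁻¹ = R.y * (R.zc j * R.va a * (R.zc j)⁻¹) * R.y⁻¹ := by group
    rw [h1, ← R.va_zc, mul_inv_cancel_right, R.y_va]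
  y_zc a := by
    have h1 : R.y * R.zc j * R.zc a * (R.y * R.zc j)⁻¹ = R.y * (R.zc j * R.zc a * (R.zc j)⁻¹) * R.y⁻¹ := by group
    rw [h1, ← R.zc_add, add_comm, R.zc_add, mul_inv_cancel_right, R.y_zc]
  y_not a b c h := by
    have h1 : R.y = R.e a b c * (R.zc j)⁻¹ := by
      rw [eq_mul_inv_iff_mul_eq]; exact h
    rw [R.zc_eq, R.e_inv, R.e_mul] at h1
    exact R.y_not _ _ _ h1

end Rel

end Cfsg.Agent.H770.Hen
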