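import Cfsg.Agent.H770.Hen.FMk

/-!
# S5175, the case J3: normal form of the coordinates (helper770)
-/

set_option autoImplicit false

namespace Cfsg.Agent.H770.Hen

open Cfsg Cfsg.FusionSystem Cfsg.Agent.H802 Cfsg.Agent.H756.HM

universe u

namespace Rel

variable {Ω : Type*} [Group Ω] {K : Type} [Field K] {σ : K ≃+* K} (R : Rel Ω K σ)

theorem e_mem_R0 (a c : K) : R.e a (σ a) c ∈ R.R0 := ⟨a, c, Or.inl rfl⟩
theorem ey_mem_R0 (a c : K) : R.e a (σ a) c * R.y ∈ R.R0 := ⟨a, c, Or.inr rfl⟩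

theorem y_mem_R0 : R.y ∈ R.R0 := ⟨0, 0, Or.inr (by rw [map_zero, R.e_zero, one_mul])⟩

theorem R0_le_Sg : R.R0 ≤ R.Sg := by
  rintro _ ⟨a, c, rfl | rfl⟩
  · exact ⟨_, _, _, Or.inl rfl⟩
  · exact ⟨_, _, _, Or.inr rfl⟩

theorem R0_not_le_T : ¬ R.R0 ≤ R.T := fun h => R.y_not_mem_T (h R.y_mem_R0)

theorem card_R0 : Nat.card R.R0 = 2 * (Nat.card K * Nat.card K) := by
  have h2 : Nat.card Bool = 2 := by simp
  rw [← h2, ← Nat.card_prod, ← Nat.card_prod]
  refine (Nat.card_congr (Equiv.ofBijective (fun t : Bool × K × K =>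
    (⟨if t.1 then R.e t.2.1 (σ t.2.1) t.2.2 else R.e t.2.1 (σ t.2.1) t.2.2 * R.y, ?_⟩ : R.R0)) ⟨?_, ?_⟩)).symm
  · split_ifs
    · exact R.e_mem_R0 _ _
    · exact R.ey_mem_R0 _ _
  · rintro ⟨i, a, c⟩ ⟨i', a', c'⟩ h
    have h1 := congrArg Subtype.val h
    cases i <;> cases i' <;> simp only [Bool.false_eq_true, if_false, if_true] at h1
    · obtain ⟨h3, -, h4⟩ := R.e_inj (mul_right_cancel h1)
      rw [h3, h4]
    · exact absurd h1 (R.e_mul_y_ne _ _ _ _ _ _)
    · exact absurd h1.symm (R.e_mul_y_ne _ _ _ _ _ _)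
    · obtain ⟨h3, -, h4⟩ := R.e_inj h1
      rw [h3, h4]
  · rintro ⟨x, hx⟩
    obtain ⟨a, c, h | h⟩ := R.mem_R0.1 hx
    · exact ⟨(true, a, c), Subtype.ext (by simp [h])⟩
    · exact ⟨(false, a, c), Subtype.ext (by simp [h])⟩

end Rel

section four

variable {K : Type} [Field K] [Fintype K]

theorem four_pow (hK : Fintype.card K = 4) (a : K) : a = 0 ∨ a = 1 ∨ a * a = a + 1 := by
  by_cases h0 : a = 0
  · exact Or.inl h0
  by_cases h1 : a = 1
  · exact Or.inr (Or.inl h1)
  right; right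
  have h4 : a ^ 4 = a := by rw [← hK]; exact FiniteField.pow_card a
  have h2 : (2 : K) = 0 := by
    have h := FiniteField.cast_card_eq_zero K
    rw [hK] at h
    have h3 : (2 : K) * 2 = 0 := by
      have : ((4 : ℕ) : K) = 2 * 2 := by norm_num
      rw [← this]; exact h
    exact (mul_self_eq_zero.1 h3)
  have h5 : a * (a - 1) * (a * a + a + 1) = 0 := by
    linear_combination h4
  rcases mul_eq_zero.1 h5 with h6 | h6
  · rcases mul_eq_zero.1 h6 with h7 | h7
    · exact absurd h7 h0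
    · exact absurd (sub_eq_zero.1 h7) h1
  · linear_combination h6 - (a + 1) * h2

/-- a nontrivial automorphism of the field with four elements is the Frobenius automorphism -/
theorem frob_of_ne (hK : Fintype.card K = 4) (σ : K ≃+* K) (h : ∃ a, σ a ≠ a) : ∀ a, σ a = a * a := by
  obtain ⟨a0, h0⟩ := h
  have h2 : (2 : K) = 0 := by
    have h := FiniteField.cast_card_eq_zero K
    rw [hK] at h
    have h3 : (2 : K) * 2 = 0 := by
      have : ((4 : ℕ) : K) = 2 * 2 := by norm_num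
      rw [← this]; exact h
    exact (mul_self_eq_zero.1 h3)
  have key : ∀ a : K, a = 0 ∨ a = 1 ∨ (a * a = a + 1 ∧ (σ a = a ∨ σ a = a * a)) := by
    intro a
    rcases four_pow hK a with h | h | h
    · exact Or.inl h
    · exact Or.inr (Or.inl h)
    · right; right
      refine ⟨h, ?_⟩
      have h1 : σ a * σ a = σ a + 1 := by rw [← map_mul, h, map_add, map_one]
      have h3 : (σ a - a) * (σ a - a * a) = 0 := by
        linear_combination h1 + (a - σ a + 1) * h + (1 + a - a * σ a) * h2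
      rcases mul_eq_zero.1 h3 with h4 | h4
      · exact Or.inl (sub_eq_zero.1 h4)
      · exact Or.inr (sub_eq_zero.1 h4)
  have ha0 : a0 * a0 = a0 + 1 ∧ σ a0 = a0 * a0 := by
    rcases key a0 with h | h | ⟨h, h1⟩
    · rw [h, map_zero] at h0; exact absurd rfl h0
    · rw [h, map_one] at h0; exact absurd rfl h0
    · exact ⟨h, h1.resolve_left h0⟩
  intro a
  rcases key a with h | h | ⟨h, h1⟩
  · rw [h, map_zero, mul_zero]
  · rw [h, map_one, mul_one]
  · have h3 : (a - a0) * (a - a0 * a0) = 0 := by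
      linear_combination h + (a0 - a + 1) * ha0.1 + (1 + a0 - a * a0) * h2
    rcases mul_eq_zero.1 h3 with h4 | h4
    · rw [sub_eq_zero.1 h4]; exact ha0.2
    · rw [sub_eq_zero.1 h4, map_mul, ha0.2]

end four

section main

variable {Ω : Type u} [Group Ω] {S : Subgroup Ω} {F : FusionSystem S} {K : Type} [Field K] [Fintype K]
    {V T : Subgroup Ω} {x : Ω} {σ : K ≃+* K}

/-- an essential subgroup not contained in `T` is `R₀` -/
theorem eq_R0 (hEss : StEss.{u}) [Finite S] (hS : IsPGroup 2 S) (hF : F.IsSaturated 2) (B : Big F K V T x)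
    {R : Rel Ω K σ} (hSg : S = R.Sg) (hT : T = R.T) (hV : V = R.Vg) (hW : cj x V = R.Wg)
    (hfrob : ∀ a, σ a = a * a) (hy : R.y * R.y = 1) {Q : Subgroup Ω} (hQ : F.IsEssential 2 Q) (hQT : ¬ Q ≤ T) :
    Q = R.R0 := by
  classical
  obtain ⟨hK, hD, hcard, hZ, hN, hcen, α, hα, z, hz, hαz⟩ := hEss hS F hF K V T x B Q hQ hQT
  have hQS : Q ≤ S := hQ.2.1.1
  have hfinQ : Finite Q := finite_of_le hQS
  have hZQ : ∀ c, R.e 0 0 c ∈ Q := fun c => hZ ⟨by rw [hV]; exact R.e_mem_V _ _, by rw [hW]; exact R.e_mem_W _ _⟩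
  have hconj : ∀ s ∈ S, ∀ q ∈ Q, s * q * s⁻¹ ∈ Q := fun s hs q hq =>
    (Subgroup.mem_normalizer_iff.1 (hN hs) q).1 hq
  -- the involution
  have hy1 : ((α z : Q) : Ω) * ((α z : Q) : Ω) = 1 := by
    have h1 : z * z = 1 := by
      apply Subtype.ext
      have h2 : (z : Ω) ∈ R.Vg := by rw [← hV]; exact hz.1
      have h3 := R.sq_Vg h2
      rw [pow_two] at h3
      exact h3
    have h2 : α z * α z = 1 := by rw [← map_mul, h1, map_one]
    exact congrArg Subtype.val h2
  obtain ⟨a, b, c, h | h⟩ := R.mem_Sg.1 (hSg ▸ hQS (α z).2)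
  · exact absurd (by rw [hT, h]; exact R.e_mem_T _ _ _) hαz
  rw [h] at hy1
  have h1 : R.e a b c * R.y * (R.e a b c * R.y) = R.e a b c * (R.y * R.e a b c * R.y⁻¹) * (R.y * R.y) := by group
  rw [h1, hy, mul_one, R.y_e, R.e_mul] at hy1
  obtain ⟨h2, h3, h4⟩ := R.e_eq_one hy1
  have hb : b = σ a := by
    have h5 := R.two (σ a)
    linear_combination h3 - h5
  subst hb
  have hc : σ c = c := by
    rw [map_add, map_mul, R.sig] at h4
    have h5 := R.two c
    have h6 := R.two (a * σ a)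
    linear_combination h4 - h5 - h6
  -- c + a σ a is a trace
  obtain ⟨d, hd⟩ : ∃ d : K, d + σ d = c + a * σ a := by
    have h5 : σ (c + a * σ a) = c + a * σ a := by
      rw [map_add, hc, map_mul, R.sig, mul_comm]
    rcases four_pow hK (c + a * σ a) with h6 | h6 | h6
    · exact ⟨0, by rw [h6, map_zero, add_zero]⟩
    · -- need an element outside the prime field
      obtain ⟨w, hw0, hw1⟩ : ∃ w : K, w ≠ 0 ∧ w ≠ 1 := by
        by_contra hall
        push Not at hall
        have h7 : (Finset.univ : Finset K) ⊆ {0, 1} := by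
          intro w _
          by_cases hw : w = 0
          · simp [hw]
          · simp [hall w hw]
        have h8 := Finset.card_le_card h7
        rw [Finset.card_univ, hK] at h8
        have h9 : ({0, 1} : Finset K).card ≤ 2 := Finset.card_le_two
        omega
      refine ⟨w, ?_⟩
      rw [h6, hfrob]
      rcases four_pow hK w with h7 | h7 | h7
      · exact absurd h7 hw0
      · exact absurd h7 hw1
      · rw [h7]
        linear_combination R.two w
    · exfalso
      rw [hfrob] at h5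
      rw [h6] at h5
      have h7 : (1 : K) = 0 := by linear_combination h5
      exact one_ne_zero h7
  have hyQ : R.y ∈ Q := by
    have hs : (R.e a 0 d)⁻¹ ∈ S := S.inv_mem (by rw [hSg]; exact R.T_le_Sg (R.e_mem_T _ _ _))
    have h5 := hconj _ hs _ (α z).2
    have h6 : R.e a 0 d * R.y * (R.e a 0 d)⁻¹ = R.e a (σ a) c * R.y := by
      have h7 : R.e a 0 d * R.y * (R.e a 0 d)⁻¹ = R.e a 0 d * (R.y * (R.e a 0 d)⁻¹ * R.y⁻¹) * R.y := by group
      rw [h7, R.e_inv, R.y_e, R.e_mul]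
      congr 2
      · rw [neg_zero, map_zero, add_zero]
      · rw [zero_add, R.neg_eq]
      · have h8 := R.two (a * σ a)
        have h9 : σ (-d + a * 0 + -a * -0) = σ d := by
          rw [neg_zero, mul_zero, mul_zero, add_zero, add_zero, R.neg_eq]
        rw [h9, R.neg_eq a]
        linear_combination hd + h8
    rw [h, ← h6] at h5
    have h7 : (R.e a 0 d)⁻¹ * (R.e a 0 d * R.y * (R.e a 0 d)⁻¹) * (R.e a 0 d)⁻¹⁻¹ = R.y := by group
    rwa [h7] at h5
  have hle : R.R0 ≤ Q := by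
    have h5 : ∀ a c, R.e a (σ a) c ∈ Q := by
      intro a c
      have hs : R.e a 0 0 ∈ S := by rw [hSg]; exact R.T_le_Sg (R.e_mem_T _ _ _)
      have h6 := Q.mul_mem (hconj _ hs _ hyQ) (Q.inv_mem hyQ)
      have h7 : R.e a 0 0 * R.y * (R.e a 0 0)⁻¹ * R.y⁻¹ = R.e a 0 0 * (R.y * (R.e a 0 0)⁻¹ * R.y⁻¹) := by group
      rw [h7, R.e_inv, R.y_e, R.e_mul] at h6
      have h8 := Q.mul_mem h6 (hZQ (c - (0 + σ (-0 + a * 0 + -a * -0) + a * σ (-a))))
      rw [R.e_mul] at h8
      have h9 : R.e (a + σ (-0) + 0) (0 + σ (-a) + 0) (0 + σ (-0 + a * 0 + -a * -0) + a * σ (-a) +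
          (c - (0 + σ (-0 + a * 0 + -a * -0) + a * σ (-a))) + (a + σ (-0)) * 0) = R.e a (σ a) c := by
        rw [R.neg_eq a]
        congr 1
        · simp
        · simp
        · ring
      rwa [h9] at h8
    rintro s hs
    obtain ⟨a, c, rfl | rfl⟩ := R.mem_R0.1 hs
    · exact h5 a c
    · exact Q.mul_mem (h5 a c) hyQ
  symm
  apply Subgroup.eq_of_le_of_card_ge hle
  rw [hcard, R.card_R0, Nat.card_eq_fintype_card, hK]

end main

end Cfsg.Agent.H770.Hen
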