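import Cfsg.Agent.H770.Hen.JMk

/-!
# S5175, the case J3: existence of the normal form (helper770)
-/

set_option autoImplicit false

namespace Cfsg.Agent.H770.Hen

open Cfsg Cfsg.FusionSystem Cfsg.Agent.H802 Cfsg.Agent.H756.HM

universe u

namespace Rel

variable {Ω : Type*} [Group Ω] {K : Type} [Field K] {σ : K ≃+* K} (R : Rel Ω K σ)

theorem twist_e (j k : K) (hk : R.y * R.y = R.zc k) (a b c : K) : (R.twist j k hk).e a b c = R.e a b c := rfl

theorem twist_y (j k : K) (hk : R.y * R.y = R.zc k) : (R.twist j k hk).y = R.e 0 0 (σ j) * R.y := by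
  show R.y * R.zc j = R.e 0 0 (σ j) * R.y
  rw [← R.zc_eq, ← R.y_zc]; group

theorem twist_Sg (j k : K) (hk : R.y * R.y = R.zc k) : (R.twist j k hk).Sg = R.Sg := by
  apply le_antisymm
  · rintro _ ⟨a, b, c, rfl | rfl⟩
    · exact ⟨a, b, c, Or.inl rfl⟩
    · rw [R.twist_y, R.twist_e]
      exact R.Sg.mul_mem (R.T_le_Sg (R.e_mem_T _ _ _)) (R.Sg.mul_mem (R.T_le_Sg (R.e_mem_T _ _ _)) R.y_mem_Sg)
  · rintro _ ⟨a, b, c, rfl | rfl⟩
    · exact ⟨a, b, c, Or.inl rfl⟩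
    · refine (R.twist j k hk).mem_Sg.2 ⟨a, b, c - σ j, Or.inr ?_⟩
      rw [R.twist_y, R.twist_e, ← mul_assoc, R.e_mul]
      congr 2 <;> ring

end Rel

/-- twisting the coordinates -/
theorem BRel.twist {Ω : Type*} [Group Ω] {S : Subgroup Ω} {F : FusionSystem S} {K : Type} [Field K]
    [Fintype K] {V T : Subgroup Ω} {x : Ω} {B : Big F K V T x} {σ : K ≃+* K} {R : Rel Ω K σ} (D : BRel B R)
    (j k : K) (hk : R.y * R.y = R.zc k) : BRel B (R.twist j k hk) := by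
  refine ⟨?_, D.T_eq, D.V_eq, D.W_eq, ?_, D.E1, D.E2⟩
  · rw [R.twist_Sg]; exact D.S_eq
  · obtain ⟨w, hw, hx⟩ := D.xy
    refine ⟨w * (R.e 0 0 (σ j))⁻¹, ?_, ?_⟩
    · refine (cj x V).mul_mem hw ((cj x V).inv_mem ?_)
      rw [D.W_eq]; exact R.e_mem_W _ _
    · rw [R.twist_y, hx]; group

/-- an element of the field with four elements outside the prime field -/
theorem exists_omega {K : Type} [Field K] [Fintype K] (hK : Fintype.card K = 4) : ∃ w : K, w ≠ 0 ∧ w ≠ 1 := by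
  classical
  by_contra hall
  push Not at hall
  have h7 : (Finset.univ : Finset K) ⊆ {0, 1} := by
    intro w _
    by_cases hw : w = 0
    · simp [hw]
    · simp [hall w hw]
  have h8 := Finset.card_le_card h7
  rw [Finset.card_univ, hK] at h8
  have h9 : ({0, 1} : Finset K).card ≤ 2 := Finset.card_le_two
  omega

theorem fix_mem {K : Type} [Field K] {k : K} (h : k * k = k) :
    k = 0 ∨ k = 1 := by
  have h1 : k * (k - 1) = 0 := by linear_combination h
  rcases mul_eq_zero.1 h1 with h2 | h2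
  · exact Or.inl h2
  · exact Or.inr (sub_eq_zero.1 h2)

/-- **Normal form.** -/
theorem exists_jsys (hEss : StEss.{u}) (hEssT : StEssT.{u}) {Ω : Type u} [Group Ω] {S : Subgroup Ω} [Finite S]
    (hS : IsPGroup 2 S) (F : FusionSystem S) (hF : F.IsSaturated 2) (K : Type) [Field K] [Fintype K]
    (V T : Subgroup Ω) (x : Ω) (B : Big F K V T x) (hD : fixS V B.E = ⊥) (R₁ : Subgroup Ω)
    (hR1 : F.IsEssential 2 R₁) (hR1T : ¬ R₁ ≤ T) :
    ∃ (σ : K ≃+* K) (R : Rel Ω K σ), JSys F R ∧ V = R.Vg ∧ cj x V = R.Wg ∧ T = R.T ∧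
      ∀ Q : Subgroup Ω, F.IsEssential 2 Q → Q = R.Vg ∨ Q = R.Wg ∨ Q = R.T ∨ Q = R.R0 := by
  classical
  obtain ⟨hK, -, hcard, hZ, hN, hcen, -⟩ := hEss hS F hF K V T x B R₁ hR1 hR1T
  obtain ⟨σ, R0, D0⟩ := exists_rel hS B hD
  -- `σ` is not the identity
  have hσ : ∃ a, σ a ≠ a := by
    by_contra hall
    push Not at hall
    have hRS : R₁ ≤ R0.Sg := D0.S_eq ▸ hR1.2.1.1
    have hfin : Finite R0.Sg := R0.finite_Sg
    have hfin1 : Finite R₁ := finite_of_le hRS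
    have hZg : ∀ c, R0.e 0 0 c ∈ R₁ := fun c =>
      hZ ⟨by rw [D0.V_eq]; exact R0.e_mem_V _ _, by rw [D0.W_eq]; exact R0.e_mem_W _ _⟩
    have hcomm : ∀ s ∈ R0.Sg, ∀ c, s * R0.e 0 0 c = R0.e 0 0 c * s := by
      intro s hs c
      have hy : R0.y * R0.e 0 0 c = R0.e 0 0 c * R0.y := by
        have h := R0.y_e 0 0 c
        rw [map_zero, mul_zero, add_zero, hall] at h
        rw [← mul_inv_eq_iff_eq_mul]; exact h
      have hT : ∀ a b c', R0.e a b c' * R0.e 0 0 c = R0.e 0 0 c * R0.e a b c' := fun a b c' => by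
        rw [R0.e_mul, R0.e_mul]; congr 1 <;> ring
      obtain ⟨a, b, c', rfl | rfl⟩ := R0.mem_Sg.1 hs
      · exact hT _ _ _
      · rw [mul_assoc, hy, ← mul_assoc, hT, mul_assoc]
    have h1 : Nat.card K ≤ Nat.card (Subgroup.center R₁) := by
      apply Nat.card_le_card_of_injective (fun c : K => (⟨⟨R0.e 0 0 c, hZg c⟩, by
        rw [Subgroup.mem_center_iff]
        intro g
        exact Subtype.ext (hcomm _ (hRS g.2) c)⟩ : Subgroup.center R₁))
      intro c c' h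
      have h2 : R0.e 0 0 c = R0.e 0 0 c' := congrArg (fun t : Subgroup.center R₁ => ((t : R₁) : Ω)) h
      exact (R0.e_inj h2).2.2
    rw [Nat.card_eq_fintype_card, hK, hcen] at h1
    omega
  have hfrob := frob_of_ne hK σ hσ
  -- twist
  obtain ⟨k, hk⟩ := R0.y_sq
  have hσk : k = 0 ∨ k = 1 := by
    apply fix_mem
    rw [← hfrob]
    have h1 : R0.y * R0.zc k * R0.y⁻¹ = R0.zc k := by rw [← hk]; group
    rw [R0.y_zc, R0.zc_eq, R0.zc_eq] at h1
    exact (R0.e_inj h1).2.2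
  obtain ⟨j, hj⟩ : ∃ j : K, k + σ j + j = 0 := by
    rcases hσk with h | h
    · exact ⟨0, by rw [h, map_zero, add_zero, add_zero]⟩
    · obtain ⟨w, hw0, hw1⟩ := exists_omega hK
      refine ⟨w, ?_⟩
      rcases four_pow hK w with h7 | h7 | h7
      · exact absurd h7 hw0
      · exact absurd h7 hw1
      · rw [h, hfrob, h7]
        linear_combination R0.two w + R0.two 1
  have D := D0.twist j k hk
  set R := R0.twist j k hk with hR
  have hy : R.y * R.y = 1 := by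
    have h1 : R.y * R.y = R0.zc (k + σ j + j) := by
      show R0.y * R0.zc j * (R0.y * R0.zc j) = _
      have h1 : R0.y * R0.zc j * (R0.y * R0.zc j) = R0.y * R0.y * (R0.y⁻¹ * R0.zc j * R0.y) * R0.zc j := by group
      rw [h1, hk, R0.zc_eq j, R0.y_inv_e, R0.zc_eq k, R0.e_mul, R0.e_mul, R0.zc_eq]
      congr 1 <;> simp
    rw [h1, hj, R0.zc_zero]
  have hR0 : ∀ Q : Subgroup Ω, F.IsEssential 2 Q → ¬ Q ≤ T → Q = R.R0 := fun Q hQ hQT =>
    eq_R0 hEss hS hF B D.S_eq D.T_eq D.V_eq D.W_eq hfrob hy hQ hQT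
  refine ⟨σ, R, ⟨D.fsys, hK, hfrob, hy, ?_⟩, D.V_eq, D.W_eq, D.T_eq, ?_⟩
  · rw [← hR0 R₁ hR1 hR1T]; exact hR1
  · intro Q hQ
    by_cases hQT : Q ≤ T
    · rcases hEssT hS F hF K V T x B Q hQ hQT with h | h | h
      · exact Or.inl (h.trans D.V_eq)
      · exact Or.inr (Or.inl (h.trans D.W_eq))
      · exact Or.inr (Or.inr (Or.inl (h.trans D.T_eq)))
    · exact Or.inr (Or.inr (Or.inr (hR0 Q hQ hQT)))

end Cfsg.Agent.H770.Hen
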