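import Cfsg.Agent.H770.Hen.JIso

/-!
# S5175, the case J3: transport of the automizers (helper770)
-/

set_option autoImplicit false
set_option linter.unusedSectionVars false

namespace Cfsg.Agent.H770.Hen

open Cfsg Cfsg.FusionSystem Cfsg.Agent.H802 Cfsg.Agent.H756.HM Cfsg.Agent.H781

section general

/-- `O^p` and isomorphisms -/
theorem mem_pResidual_equiv {p : ℕ} {A B : Type*} [Group A] [Group B] (e : A ≃* B) {a : A} :
    e a ∈ pResidual p B ↔ a ∈ pResidual p A := by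
  have key : ∀ {A B : Type _} [Group A] [Group B] (e : A ≃* B) {a : A}, a ∈ pResidual p A → e a ∈ pResidual p B := by
    intro A B _ _ e a ha
    have h1 : (pResidual p A).map e.toMonoidHom ≤ pResidual p B := by
      unfold pResidual
      rw [MonoidHom.map_closure, Subgroup.closure_le]
      rintro _ ⟨x, hx, rfl⟩
      apply Subgroup.subset_closure
      show Nat.Coprime (orderOf (e x)) p
      rw [MulEquiv.orderOf_eq]
      exact hx
    exact h1 ⟨a, ha, rfl⟩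
  have key' : ∀ {A B : Type _} [Group A] [Group B] (e : A ≃* B) {a : A}, a ∈ pResidual p A → e a ∈ pResidual p B := by
    intro A B _ _ e a ha
    have h1 : (pResidual p A).map e.toMonoidHom ≤ pResidual p B := by
      unfold pResidual
      rw [MonoidHom.map_closure, Subgroup.closure_le]
      rintro _ ⟨x, hx, rfl⟩
      apply Subgroup.subset_closure
      show Nat.Coprime (orderOf (e x)) p
      rw [MulEquiv.orderOf_eq]
      exact hx
    exact h1 ⟨a, ha, rfl⟩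
  refine ⟨fun h => ?_, fun h => key e h⟩
  have h1 := key' e.symm h
  rwa [MulEquiv.symm_apply_apply] at h1

variable {Ω : Type*} [Group Ω] {S : Subgroup Ω} {G : Type*} [Group G] {ι : S →* G} {hι : Function.Injective ι}

theorem mem_pullback {P : Subgroup Ω} {φ : P →* Ω} : φ ∈ (pullback ι hι).Hom P ↔
    ∃ (hP : P ≤ S) (hφ : ∀ x : P, φ x ∈ S), ∃ g : G, ∀ x : P, ι ⟨φ x, hφ x⟩ = g * ι ⟨x, hP x.2⟩ * g⁻¹ := Iff.rfl

theorem exists_of_conj {P : Subgroup Ω} (hP : P ≤ S) (g : G) (h : ∀ x : P, g * ι ⟨x, hP x.2⟩ * g⁻¹ ∈ ι.range) :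
    ∃ φ ∈ (pullback ι hι).Hom P, ∀ x : P, ∃ hx : φ x ∈ S, ι ⟨φ x, hx⟩ = g * ι ⟨x, hP x.2⟩ * g⁻¹ := by
  let e := MonoidHom.ofInjective hι
  let κ : P →* ι.range :=
    { toFun := fun x => ⟨g * ι ⟨x, hP x.2⟩ * g⁻¹, h x⟩
      map_one' := Subtype.ext (by
        have h1 : (⟨((1 : P) : Ω), hP (1 : P).2⟩ : S) = 1 := rfl
        show g * ι ⟨((1 : P) : Ω), hP (1 : P).2⟩ * g⁻¹ = 1
        rw [h1, map_one, mul_one, mul_inv_cancel])
      map_mul' := fun x y => Subtype.ext (by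
        have h1 : (⟨((x * y : P) : Ω), hP (x * y).2⟩ : S) = ⟨x, hP x.2⟩ * ⟨y, hP y.2⟩ := rfl
        show g * ι ⟨((x * y : P) : Ω), hP (x * y).2⟩ * g⁻¹ = g * ι ⟨x, hP x.2⟩ * g⁻¹ * (g * ι ⟨y, hP y.2⟩ * g⁻¹)
        rw [h1, map_mul]
        group) }
  let φ : P →* Ω := S.subtype.comp (e.symm.toMonoidHom.comp κ)
  have hφ : ∀ x : P, φ x ∈ S := fun x => (e.symm (κ x)).2
  have h2 : ∀ x : P, ι ⟨φ x, hφ x⟩ = g * ι ⟨x, hP x.2⟩ * g⁻¹ := by
    intro x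
    have h3 : (⟨φ x, hφ x⟩ : S) = e.symm (κ x) := Subtype.ext rfl
    rw [h3]
    have h4 : (e (e.symm (κ x)) : G) = (κ x : G) := by rw [MulEquiv.apply_symm_apply]
    exact h4
  exact ⟨φ, ⟨hP, hφ, g, h2⟩, fun x => ⟨hφ x, h2 x⟩⟩

/-- automizers in the pullback -/
theorem mem_autGroup_pullback {P : Subgroup Ω} (hP : P ≤ S) {P' : Subgroup G} (ε : P ≃* P')
    (hε : ∀ x : P, ((ε x : P') : G) = ι ⟨x, hP x.2⟩) (α : MulAut P) :
    α ∈ (pullback ι hι).autGroup P ↔ MulAut.congr ε α ∈ (groupFusionSystem ι.range).autGroup P' := by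
  have hP' : P' ≤ ι.range := by
    intro y hy
    obtain ⟨x, hx⟩ := ε.surjective ⟨y, hy⟩
    have h1 := congrArg Subtype.val hx
    rw [hε] at h1
    exact ⟨_, h1⟩
  rw [mem_autGroup_iff _ hP, mem_autGroup_iff _ hP']
  have h0 : ∀ x : P, ((MulAut.congr ε α (ε x) : P') : G) = ι ⟨α x, hP (α x).2⟩ := by
    intro x
    show ((ε (α (ε.symm (ε x))) : P') : G) = _
    rw [MulEquiv.symm_apply_apply, hε]
  constructor
  · rintro ⟨_, hφ, g, hg⟩
    refine ⟨hP', fun x => hP' (MulAut.congr ε α x).2, g, fun y => ?_⟩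
    obtain ⟨x, rfl⟩ := ε.surjective y
    show ((MulAut.congr ε α (ε x) : P') : G) = g * (ε x : G) * g⁻¹
    rw [h0, hε]
    exact hg x
  · rintro ⟨-, -, g, hg⟩
    refine ⟨hP, fun x => hP (α x).2, g, fun x => ?_⟩
    have h1 := hg (ε x)
    have h2 : ((MulAut.congr ε α (ε x) : P') : G) = g * (ε x : G) * g⁻¹ := h1
    rw [h0, hε] at h2
    exact h2

end general

section trans

variable {Ω G : Type*} [Group Ω] [Group G] {K : Type} [Field K] {σ : K ≃+* K} {R : Rel Ω K σ} {R' : Rel G K σ}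
  {ι : R.Sg →* G} (hι : Function.Injective ι) (hr : ι.range = R'.Sg)
  (he : ∀ a b c (h : R.e a b c ∈ R.Sg), ι ⟨R.e a b c, h⟩ = R'.e a b c)
  (hey : ∀ a b c (h : R.e a b c * R.y ∈ R.Sg), ι ⟨R.e a b c * R.y, h⟩ = R'.e a b c * R'.y)

include hι hr he hey

theorem fsys_pullback (D : FSys (groupFusionSystem R'.Sg) R') : FSys (pullback ι hι) R := by
  have hV : R.Vg ≤ R.Sg := R.Vg_le_T.trans R.T_le_Sg
  have hV' : R'.Vg ≤ R'.Sg := R'.Vg_le_T.trans R'.T_le_Sg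
  refine ⟨rfl, ?_, ?_⟩
  · intro p q r s hd
    obtain ⟨φ', ⟨-, -, g, hg⟩, hφ'⟩ := D.lin p q r s hd
    have h1 : ∀ a c, g * R'.e a 0 c * g⁻¹ = R'.e (r * c + s * a) 0 (p * c + q * a) := by
      intro a c
      rw [← hφ' a c (R'.e_mem_V _ _), hg]
    obtain ⟨φ, hφ, h2⟩ := exists_of_conj (hι := hι) hV g (by
      rintro ⟨x, hx⟩
      obtain ⟨a, c, rfl⟩ := R.mem_Vg.1 hx
      rw [he, h1, hr]
      exact hV' (R'.e_mem_V _ _))
    refine ⟨φ, hφ, fun a c h => ?_⟩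
    obtain ⟨h3, h4⟩ := h2 ⟨R.e a 0 c, h⟩
    rw [he, h1, ← he _ _ _ (hV (R.e_mem_V _ _))] at h4
    exact congrArg Subtype.val (hι h4)
  · rintro φ ⟨_, hφ, g, hg⟩ hφV
    have h1 : ∀ a c, ∃ a' c', φ ⟨R.e a 0 c, R.e_mem_V _ _⟩ = R.e a' 0 c' ∧ g * R'.e a 0 c * g⁻¹ = R'.e a' 0 c' := by
      intro a c
      obtain ⟨a', c', h⟩ := R.mem_Vg.1 (hφV ⟨R.e a 0 c, R.e_mem_V _ _⟩)
      refine ⟨a', c', h, ?_⟩
      have h2 := hg ⟨R.e a 0 c, R.e_mem_V _ _⟩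
      rw [he] at h2
      rw [← h2, ← he a' 0 c' (hV (R.e_mem_V _ _))]
      congr 1
      exact Subtype.ext h
    have h2 : ∀ x : R'.Vg, g * (x : G) * g⁻¹ ∈ R'.Vg := by
      rintro ⟨x, hx⟩
      obtain ⟨a, c, rfl⟩ := R'.mem_Vg.1 hx
      obtain ⟨a', c', -, h⟩ := h1 a c
      show g * R'.e a 0 c * g⁻¹ ∈ R'.Vg
      rw [h]; exact R'.e_mem_V _ _
    let φ' : R'.Vg →* G := (MulAut.conj g).toMonoidHom.comp R'.Vg.subtype
    have hφ' : φ' ∈ (groupFusionSystem R'.Sg).Hom R'.Vg :=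
      ⟨hV', fun x => hV' (h2 x), g, fun x => rfl⟩
    obtain ⟨θ, p, q, r, s, hd, h3⟩ := D.semi φ' hφ' h2
    refine ⟨θ, p, q, r, s, hd, fun a c h => ?_⟩
    obtain ⟨a', c', h4, h5⟩ := h1 a c
    have h6 : g * R'.e a 0 c * g⁻¹ = R'.e (r * θ c + s * θ a) 0 (p * θ c + q * θ a) := h3 a c (R'.e_mem_V _ _)
    rw [h5] at h6
    obtain ⟨h7, -, h8⟩ := R'.e_inj h6
    rw [h4, h7, h8]

/-- the isomorphism of the groups `R₀` -/
theorem exists_eps : ∃ ε : R.R0 ≃* R'.R0, ∀ x : R.R0, ((ε x : R'.R0) : G) = ι ⟨x, R.R0_le_Sg x.2⟩ := by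
  have h1 : ∀ x : R.R0, ι ⟨x, R.R0_le_Sg x.2⟩ ∈ R'.R0 := by
    rintro ⟨_, a, c, rfl | rfl⟩
    · have h2 := he a (σ a) c (R.R0_le_Sg (R.e_mem_R0 _ _))
      exact ⟨a, c, Or.inl h2⟩
    · have h2 := hey a (σ a) c (R.R0_le_Sg (R.ey_mem_R0 _ _))
      exact ⟨a, c, Or.inr h2⟩
  let κ : R.R0 →* R'.R0 := (ι.comp (Subgroup.inclusion R.R0_le_Sg)).codRestrict R'.R0 h1
  have h2 : Function.Bijective κ := by
    constructor
    · intro x y h
      have h3 : ι (Subgroup.inclusion R.R0_le_Sg x) = ι (Subgroup.inclusion R.R0_le_Sg y) := congrArg Subtype.val h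
      exact Subgroup.inclusion_injective R.R0_le_Sg (hι h3)
    · rintro ⟨_, a, c, rfl | rfl⟩
      · exact ⟨⟨_, R.e_mem_R0 a c⟩, Subtype.ext (he _ _ _ _)⟩
      · exact ⟨⟨_, R.ey_mem_R0 a c⟩, Subtype.ext (hey _ _ _ _)⟩
  exact ⟨MulEquiv.ofBijective κ h2, fun x => rfl⟩

theorem autGroup_R0_pullback (hA : (groupFusionSystem R'.Sg).autGroup R'.R0 = pResidual 2 (MulAut R'.R0)) :
    (pullback ι hι).autGroup R.R0 = pResidual 2 (MulAut R.R0) := by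
  obtain ⟨ε, hε⟩ := exists_eps hι hr he hey
  ext α
  rw [mem_autGroup_pullback R.R0_le_Sg ε hε α, hr, hA]
  exact mem_pResidual_equiv (MulAut.congr ε)

end trans

end Cfsg.Agent.H770.Hen
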