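import Cfsg.Agent.H770.Hen.Crd
import Mathlib.LinearAlgebra.Matrix.ProjectiveSpecialLinearGroup

/-!
# S5175, section L: what the group side (task L2) has to provide (helper770)
-/

set_option autoImplicit false

namespace Cfsg.Agent.H770.Hen

open Cfsg Cfsg.FusionSystem

/-- A group of diagonal semilinear maps `(c, a) ↦ (μ θ c, ν θ a)` of odd order, containing the torus of `SL₂(K)` and
normalized by `y` (`(θ, μ, ν) ↦ (σθσ, σ μ, σ (μ / ν))`). -/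
structure DData (K : Type) [Field K] (σ : K ≃+* K) (D : (K ≃+* K) → K → K → Prop) : Prop where
  ne : ∀ θ μ ν, D θ μ ν → μ ≠ 0 ∧ ν ≠ 0
  tor : ∀ l : K, l ≠ 0 → D (RingEquiv.refl K) l l⁻¹
  mul : ∀ θ μ ν θ' μ' ν', D θ μ ν → D θ' μ' ν' → D (θ'.trans θ) (μ * θ μ') (ν * θ ν')
  inv : ∀ θ μ ν, D θ μ ν → D θ.symm (θ.symm μ⁻¹) (θ.symm ν⁻¹)
  swap : ∀ θ μ ν, D θ μ ν → D ((σ.trans θ).trans σ) (σ μ) (σ (μ / ν))
  odd : Odd (Nat.card {t : (K ≃+* K) × K × K // D t.1 t.2.1 t.2.2})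

/-- Task L2: the group side. -/
def StL2 : Prop :=
  ∀ (K : Type) [Field K] [Fintype K] (n : ℕ), Fintype.card K = 2 ^ n → 4 ≤ Fintype.card K →
    ∀ (σ : K ≃+* K), (∀ a, σ (σ a) = a) → ∀ (D : (K ≃+* K) → K → K → Prop), DData K σ D →
    ∃ (G : Type) (_ : Group G) (_ : Finite G) (S : Sylow 2 G)
      (C : Crd (groupFusionSystem (S : Subgroup G)) K σ),
      (∀ θ μ ν, C.Dg θ μ ν ↔ D θ μ ν) ∧ (∀ a, C.va a ∈ pResidual 2 G) ∧
      Nonempty (↥(Cfsg.generalizedFittingSubgroup G) ≃* Matrix.ProjectiveSpecialLinearGroup (Fin 3) K) ∧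
      Cfsg.generalizedFittingSubgroup G ≤ Cfsg.pResidual 2 G ∧
      Odd ((Cfsg.generalizedFittingSubgroup G).subgroupOf (Cfsg.pResidual 2 G)).index ∧
      (Cfsg.pResidual 2 G).index = 2

end Cfsg.Agent.H770.Hen
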